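import Groth.Agent.Coh69.TensBC.Theta
import Groth.Agent.FlatMor66.RelFlatLocus

/-! Base change of higher direct images tensored with a module flat over the base. -/

set_option autoImplicit false
set_option backward.isDefEq.respectTransparency.types false
set_option maxSynthPendingDepth 6
set_option linter.style.haveILetI false

noncomputable section

universe u

open CategoryTheory Limits AlgebraicGeometry TopologicalSpace Opposite
open scoped TensorProduct

namespace Groth.Agent.Coh69.TensBC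

variable {X S X' S' : Scheme.{u}} {f : X ⟶ S} {g : S' ⟶ S} {g' : X' ⟶ X} {f' : X' ⟶ S'}
  (sq : IsPullback g' f' f g) (G : S'.Modules)

section Psi

variable (hK : FlatMod.IsFlatOver g' ((Scheme.Modules.pullback f').obj G)) {M : X.Modules}
  (R : InjectiveResolution M) (R' : InjectiveResolution ((tensPull g' ((Scheme.Modules.pullback f').obj G)).obj M))
  (j : ℕ)

/-- The composite from cycles to the cohomology of the target. -/
def thetaTop : (tensPull g G).obj ((Scheme.Modules.pushforward f).obj (cycZ R (j + 1))) ⟶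
    cokernel ((Scheme.Modules.pushforward f').map (cycπ R' j)) :=
  theta sq G (phiZ hK R R' (j + 1)) ≫ cokernel.π _

theorem thetaTop_zero : (Scheme.Modules.pushforward f).map (cycπ R j) ≫
    (tensPullAdj g G).homEquiv _ _ (thetaTop sq G hK R R' j) = 0 := by
  haveI : (QC70.homFunctor G ⋙ Scheme.Modules.pushforward g).IsRightAdjoint :=
    (tensPullAdj g G).isRightAdjoint
  rw [← Adjunction.homEquiv_naturality_left, thetaTop, ← Category.assoc,
    theta_naturality sq G _ _ _ _ (π_phiZ hK R R' j), Category.assoc, cokernel.condition, comp_zero,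
    Adjunction.homEquiv_unit, Functor.map_zero, comp_zero]

/-- The base change morphism of higher direct images. -/
def psi : (tensPull g G).obj (cokernel ((Scheme.Modules.pushforward f).map (cycπ R j))) ⟶
    cokernel ((Scheme.Modules.pushforward f').map (cycπ R' j)) :=
  ((tensPullAdj g G).homEquiv _ _).symm (cokernel.desc _ _ (thetaTop_zero sq G hK R R' j))

theorem π_psi : (tensPull g G).map (cokernel.π ((Scheme.Modules.pushforward f).map (cycπ R j))) ≫
    psi sq G hK R R' j = thetaTop sq G hK R R' j := by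
  rw [psi, ← Adjunction.homEquiv_naturality_left_symm, cokernel.π_desc, Equiv.symm_apply_apply]

end Psi

section Nu

variable {V : S.Opens} (V' : S'.Opens) (eV : V' ≤ g ⁻¹ᵁ V) (Q : S.Modules)

/-- Sections on an open of the base, as a module over its functions. -/
abbrev SecB : ModuleCat.{u} Γ(S, V) := ModuleCat.of Γ(S, V) Γ(Q, V)

/-- `γ ⊗ q ↦ γ ⊗ g^*q`, additively in `q`. -/
def nuFun (γ : Γ(G, V')) : Γ(Q, V) →+ Γ((tensPull g G).obj Q, V') :=
  AddMonoidHom.mk' (fun q => Amp73.tm _ _ γ (QC70.res _ eV (Amp73.pullS g Q V q))) fun q q' => by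
    have h : Amp73.pullS g Q V (q + q') = Amp73.pullS g Q V q + Amp73.pullS g Q V q' := map_add _ _ _
    exact (congrArg (fun z => Amp73.tm _ _ γ (QC70.res _ eV z)) h).trans
      ((congrArg (Amp73.tm _ _ γ) (QC70.res_add _ _ _)).trans (Amp73.tm_add_right _ _ _))

/-- `γ ⊗ q ↦ γ ⊗ g^*q`. -/
def nu : (Sec g G V' eV) ⊗[Γ(S, V)] (SecB (V := V) Q) →+ Γ((tensPull g G).obj Q, V') :=
  TensorProduct.liftAddHom (M := Sec g G V' eV) (N := SecB (V := V) Q)
    (AddMonoidHom.mk' (nuFun G V' eV Q) fun γ δ => AddMonoidHom.ext fun q => Amp73.tm_add_left _ _ _)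
    fun a γ q => by
      show Amp73.tm _ _ (g.appLE V V' eV a • (show Γ(G, V') from γ)) (QC70.res _ eV (Amp73.pullS g Q V q)) =
        Amp73.tm _ _ (show Γ(G, V') from γ) (QC70.res _ eV (Amp73.pullS g Q V (a • (show Γ(Q, V) from q))))
      rw [Amp73.pullS_smul, QC70.res_smul, Amp73.tm_smul_left, Amp73.tm_smul_right]
      rfl

theorem nu_bijective [G.IsQuasicoherent] [Q.IsQuasicoherent] (hV : IsAffineOpen V) (hV' : IsAffineOpen V') :
    Function.Bijective (nu G V' eV Q) := by
  haveI := QCPull72.isQuasicoherent_pullback g Q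
  letI := (g.appLE V V' eV).hom.toAlgebra
  letI : Module Γ(S, V) Γ(G, V') := Module.compHom _ (g.appLE V V' eV).hom
  haveI : IsScalarTower Γ(S, V) Γ(S', V') Γ(G, V') := IsScalarTower.of_algebraMap_smul fun _ _ => rfl
  obtain ⟨EM, hEM⟩ := LimTop61.exists_baseChange_equiv g Q hV hV' eV
  obtain ⟨E, hE⟩ := Mum71.exists_tensor_equiv G ((Scheme.Modules.pullback g).obj Q) hV'
  let c : Γ(G, V') ⊗[Γ(S, V)] Γ(Q, V) ≃+ Γ((tensPull g G).obj Q, V') :=
    (TensorProduct.AlgebraTensorModule.cancelBaseChange Γ(S, V) Γ(S', V') Γ(S', V') Γ(G, V') Γ(Q, V)).symm.toAddEquiv.trans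
      ((TensorProduct.congr (LinearEquiv.refl Γ(S', V') Γ(G, V')) EM.symm).toAddEquiv.trans E.toAddEquiv)
  have hc : ∀ t, nu G V' eV Q t = c t := fun t => by
    induction t using TensorProduct.induction_on with
    | zero => exact (map_zero (nu G V' eV Q)).trans (map_zero c).symm
    | add x y hx hy => exact (map_add (nu G V' eV Q) x y).trans ((congrArg₂ (· + ·) hx hy).trans (map_add c x y).symm)
    | tmul γ q =>
      show Amp73.tm _ _ (show Γ(G, V') from γ) (QC70.res _ eV (Amp73.pullS g Q V q)) =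
        E ((TensorProduct.congr (LinearEquiv.refl Γ(S', V') Γ(G, V')) EM.symm)
          ((TensorProduct.AlgebraTensorModule.cancelBaseChange Γ(S, V) Γ(S', V') Γ(S', V') Γ(G, V') Γ(Q, V)).symm
            ((show Γ(G, V') from γ) ⊗ₜ (show Γ(Q, V) from q))))
      rw [TensorProduct.AlgebraTensorModule.cancelBaseChange_symm_tmul, TensorProduct.congr_tmul, hE,
        ← hEM q, LinearEquiv.symm_apply_apply]
      rfl
  rw [show ⇑(nu G V' eV Q) = ⇑c from funext hc]
  exact c.bijective

/-- A morphism out of a direct image on sections, linearly. -/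
def pushMap {Z : X.Modules} (φ : (Scheme.Modules.pushforward f).obj Z ⟶ Q) :
    Sec f Z (f ⁻¹ᵁ V) le_rfl →ₗ[Γ(S, V)] SecB (V := V) Q where
  toFun z := φ.app V z
  map_add' a b := map_add (φ.app V).hom a b
  map_smul' a z := by
    show φ.app V ((f.appLE V (f ⁻¹ᵁ V) le_rfl a) • (show Γ(Z, f ⁻¹ᵁ V) from z)) = a • φ.app V z
    rw [← φ.app_smul, ← Scheme.Hom.app_eq_appLE]
    rfl

end Nu

variable [G.IsQuasicoherent] (hflat : FlatMod.IsFlatOver g G)

include sq hflat in
theorem flat_pullback : FlatMod.IsFlatOver g' ((Scheme.Modules.pullback f').obj G) := fun x =>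
  FlatMor66.isFlatOverAt_baseChange sq.flip G ‹G.IsQuasicoherent› x (hflat _)

variable (hK : FlatMod.IsFlatOver g' ((Scheme.Modules.pullback f').obj G)) {M : X.Modules} [M.IsQuasicoherent]
  (R : InjectiveResolution M) (R' : InjectiveResolution ((tensPull g' ((Scheme.Modules.pullback f').obj G)).obj M))

omit [M.IsQuasicoherent] [G.IsQuasicoherent] in
/-- The base change morphism through the map `γ ⊗ m ↦ γ ⊗ g^*m`. -/
theorem res_theta_nu {V : S.Opens} {V' : S'.Opens} (eV : V' ≤ g ⁻¹ᵁ V) {Z : X.Modules} {Z' : X'.Modules}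
    (φ : (tensPull g' ((Scheme.Modules.pullback f').obj G)).obj Z ⟶ Z')
    (t : (Sec g G V' eV) ⊗[Γ(S, V)] (Sec f Z (f ⁻¹ᵁ V) le_rfl)) :
    QC70.res Z' (inf_le_right : upOpen g' f' V' (f ⁻¹ᵁ V) ≤ f' ⁻¹ᵁ V')
        ((theta sq G φ).app V' (nu G V' eV ((Scheme.Modules.pushforward f).obj Z)
          ((pushMap ((Scheme.Modules.pushforward f).obj Z) (𝟙 _)).lTensor _ t))) =
      hSec sq G V' eV φ (f ⁻¹ᵁ V) le_rfl t := by
  induction t using TensorProduct.induction_on with
  | zero =>
    rw [map_zero, map_zero, map_zero]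
    exact (QC70.res_zero _).trans (map_zero (hSec sq G V' eV φ (f ⁻¹ᵁ V) le_rfl)).symm
  | add x y hx hy =>
    rw [map_add, map_add, map_add]
    exact (QC70.res_add _ _ _).trans ((congrArg₂ (· + ·) hx hy).trans
      (map_add (hSec sq G V' eV φ (f ⁻¹ᵁ V) le_rfl) x y).symm)
  | tmul γ m => exact theta_hSec sq G eV φ γ m

variable [QuasiCompact f] [QuasiSeparated f]

omit [M.IsQuasicoherent] [G.IsQuasicoherent] in
include sq in
theorem qcqs_f' : QuasiCompact f' ∧ QuasiSeparated f' :=
  ⟨MorphismProperty.of_isPullback (P := @QuasiCompact) sq ‹_›,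
    MorphismProperty.of_isPullback (P := @QuasiSeparated) sq ‹_›⟩

include hflat in
theorem psi_app_bijective [HasInjectiveResolutions X.Modules] {V : S.Opens} (hV : IsAffineOpen V)
    {V' : S'.Opens} (hV' : IsAffineOpen V') (eV : V' ≤ g ⁻¹ᵁ V) (j : ℕ) :
    Function.Bijective ((psi sq G hK R R' j).app V') := by
  obtain ⟨_, _⟩ := qcqs_f' sq
  haveI := flat_sec G hV hV' eV hflat
  haveI := QCPull72.isQuasicoherent_pullback f' G
  haveI := QCPull72.isQuasicoherent_pullback g' M
  haveI : ((tensPull g' ((Scheme.Modules.pullback f').obj G)).obj M).IsQuasicoherent :=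
    QCTens72.isQuasicoherent_tensorMod ((Scheme.Modules.pullback f').obj G) ((Scheme.Modules.pullback g').obj M)
  let Q := cokernel ((Scheme.Modules.pushforward f).map (cycπ R j))
  haveI : Q.IsQuasicoherent := isQuasicoherent_coker f R j
  have hπ := coker_push_sections f R hV j
  have hπ' := coker_push_sections f' R' hV' j
  have hqi := phiCyc_qi sq G hV hV' eV hflat hK R R' (f ⁻¹ᵁ V) le_rfl (f.isCompact_preimage hV.isCompact)
  let πV := pushMap (V := V) Q (cokernel.π ((Scheme.Modules.pushforward f).map (cycπ R j)))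
  let pV := pushMap (V := V) ((Scheme.Modules.pushforward f).obj (cycZ R (j + 1))) (𝟙 _)
  have hnu := nu_bijective G V' eV Q hV hV'
  have hsurj : Function.Surjective (πV.lTensor (Sec g G V' eV)) := LinearMap.lTensor_surjective _ hπ.1
  let W := upOpen g' f' V' (f ⁻¹ᵁ V)
  have hW : W ≤ f' ⁻¹ᵁ V' := inf_le_right
  have hW' : f' ⁻¹ᵁ V' ≤ W := le_inf ((f'.preimage_mono eV).trans (preimage_comm sq V).le) le_rfl
  have hkey : ∀ t, ∃ z : Γ(cycZ R' (j + 1), f' ⁻¹ᵁ V'),
      (psi sq G hK R R' j).app V' (nu G V' eV Q (πV.lTensor _ t)) =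
        (cokernel.π ((Scheme.Modules.pushforward f').map (cycπ R' j))).app V' z ∧
      QC70.res (cycZ R' (j + 1)) hW z = hSec sq G V' eV (phiZ hK R R' (j + 1)) (f ⁻¹ᵁ V) le_rfl t := fun t => by
    refine ⟨(theta sq G (phiZ hK R R' (j + 1))).app V' (nu G V' eV _ (pV.lTensor _ t)), ?_,
      res_theta_nu sq G eV (phiZ hK R R' (j + 1)) t⟩
    have hn : nu G V' eV Q (πV.lTensor _ t) = ((tensPull g G).map
        (cokernel.π ((Scheme.Modules.pushforward f).map (cycπ R j)))).app V'
          (nu G V' eV _ (pV.lTensor _ t)) := by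
      induction t using TensorProduct.induction_on with
      | zero => simp only [map_zero]
      | add x y hx hy => simp only [map_add, hx, hy]
      | tmul γ m =>
        refine Eq.trans ?_ (tensorBi_map_tmul G ((Scheme.Modules.pullback g).map _) V' γ _).symm
        refine congrArg (Amp73.tm _ _ _) (Eq.trans ?_ (QC70.app_res _ eV _).symm)
        exact congrArg _ (Amp73.map_app_pullS g _ V _).symm
    rw [hn]
    exact congr($(congrArg (fun q => Scheme.Modules.Hom.app q V') (π_psi sq G hK R R' j)) _)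
  refine ⟨(injective_iff_map_eq_zero ((psi sq G hK R R' j).app V').hom).2 fun x hx => ?_, fun q => ?_⟩
  · obtain ⟨s, rfl⟩ := hnu.2 x
    obtain ⟨t, rfl⟩ := hsurj s
    obtain ⟨z, hz, hzt⟩ := hkey t
    obtain ⟨y', hy'⟩ := (hπ'.2 z).1 (hz.symm.trans hx)
    obtain ⟨y, rfl⟩ := hqi.inj j t (QC70.res (R'.cocomplex.X j) hW y')
      (hzt.symm.trans ((congrArg (QC70.res _ hW) hy'.symm).trans (QC70.app_res (cycπ R' j) hW y').symm))
    refine (congrArg (nu G V' eV Q) ?_).trans (map_zero _)
    show πV.lTensor _ ((sMap f (cycπ R j) (f ⁻¹ᵁ V) le_rfl).lTensor _ y) = 0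
    rw [← LinearMap.lTensor_comp_apply, show πV ∘ₗ sMap f (cycπ R j) (f ⁻¹ᵁ V) le_rfl = 0 from
      LinearMap.ext fun m => (hπ.2 _).2 ⟨m, rfl⟩, LinearMap.lTensor_zero, LinearMap.zero_apply]
  · obtain ⟨z', rfl⟩ := hπ'.1 q
    obtain ⟨t, y', ht⟩ := hqi.surj j (QC70.res (cycZ R' (j + 1)) hW z')
    obtain ⟨z, hz, hzt⟩ := hkey t
    refine ⟨nu G V' eV Q (πV.lTensor _ t), hz.trans (sub_eq_zero.1 ?_)⟩
    rw [← map_sub]
    refine (hπ'.2 _).2 ⟨-(QC70.res (R'.cocomplex.X j) hW' y'), ?_⟩
    refine (map_neg ((cycπ R' j).app (f' ⁻¹ᵁ V')).hom _).trans ?_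
    refine (congrArg Neg.neg (QC70.app_res (cycπ R' j) hW' y')).trans ?_
    have e1 : (cycπ R' j).app W y' = QC70.res (cycZ R' (j + 1)) hW z' - QC70.res (cycZ R' (j + 1)) hW z := by
      rw [hzt]
      exact eq_sub_of_add_eq' ht
    refine (congrArg (fun w => -QC70.res (cycZ R' (j + 1)) hW' w) e1).trans ?_
    rw [← QC70.res_sub, QC70.res_res, QC70.res_self, neg_sub]
    rfl

include hflat in
theorem isIso_psi [HasInjectiveResolutions X.Modules] (j : ℕ) : IsIso (psi sq G hK R R' j) := by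
  refine FMK72.isIso_of_basis _ fun y W hy => ?_
  obtain ⟨V, hV, hyV, -⟩ := exists_isAffineOpen_mem_and_subset (X := S) (x := g y) (U := ⊤) trivial
  obtain ⟨V', hV', hyV', hle⟩ := exists_isAffineOpen_mem_and_subset (X := S') (x := y) (U := W ⊓ g ⁻¹ᵁ V)
    ⟨hy, hyV⟩
  exact ⟨V', fun a ha => (hle ha).1, hyV',
    psi_app_bijective sq G hflat hK R R' hV hV' (fun a ha => (hle ha).2) j⟩

include hflat in
theorem theta_app_bijective {V : S.Opens} (hV : IsAffineOpen V) {V' : S'.Opens} (hV' : IsAffineOpen V')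
    (eV : V' ≤ g ⁻¹ᵁ V) : Function.Bijective ((theta sq G (phiZ hK R R' 0)).app V') := by
  haveI := flat_sec G hV hV' eV hflat
  haveI : (cycZ R 0).IsQuasicoherent := QC70.isQuasicoherent_of_iso (cycZero R) ‹M.IsQuasicoherent›
  haveI := QCqs72.isQuasicoherent_pushforward (cycZ R 0) f
  let Q := (Scheme.Modules.pushforward f).obj (cycZ R 0)
  let pV := pushMap (V := V) Q (𝟙 _)
  have hnu := nu_bijective G V' eV Q hV hV'
  have hpV : Function.Bijective (pV.lTensor (Sec g G V' eV)) :=
    (LinearEquiv.lTensor (Sec g G V' eV) (LinearEquiv.ofBijective pV Function.bijective_id)).bijective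
  have h0 := (phiCyc_qi sq G hV hV' eV hflat hK R R' (f ⁻¹ᵁ V) le_rfl (f.isCompact_preimage hV.isCompact)).bij₀
  have hW' : f' ⁻¹ᵁ V' ≤ upOpen g' f' V' (f ⁻¹ᵁ V) :=
    le_inf ((f'.preimage_mono eV).trans (preimage_comm sq V).le) le_rfl
  have hres : Function.Bijective (QC70.res (cycZ R' 0) (inf_le_right : upOpen g' f' V' (f ⁻¹ᵁ V) ≤ f' ⁻¹ᵁ V')) :=
    ⟨Function.LeftInverse.injective (g := QC70.res (cycZ R' 0) hW') fun x => by rw [QC70.res_res, QC70.res_self],
      Function.RightInverse.surjective (g := QC70.res (cycZ R' 0) hW') fun x => by rw [QC70.res_res, QC70.res_self]⟩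
  refine (Function.Bijective.of_comp_iff _ (hnu.comp hpV)).1 ((Function.Bijective.of_comp_iff' hres _).1 ?_)
  have h1 : Function.Bijective ⇑(hSec sq G V' eV (phiZ hK R R' 0) (f ⁻¹ᵁ V) le_rfl) := h0
  have e : ⇑(hSec sq G V' eV (phiZ hK R R' 0) (f ⁻¹ᵁ V) le_rfl) =
      QC70.res (cycZ R' 0) (inf_le_right : upOpen g' f' V' (f ⁻¹ᵁ V) ≤ f' ⁻¹ᵁ V') ∘
        ((theta sq G (phiZ hK R R' 0)).app V' ∘ (nu G V' eV Q ∘ pV.lTensor (Sec g G V' eV))) :=
    funext fun t => (res_theta_nu sq G eV (phiZ hK R R' 0) t).symm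
  rw [e] at h1
  exact h1

include hflat in
theorem isIso_theta : IsIso (theta sq G (phiZ hK R R' 0)) := by
  refine FMK72.isIso_of_basis _ fun y W hy => ?_
  obtain ⟨V, hV, hyV, -⟩ := exists_isAffineOpen_mem_and_subset (X := S) (x := g y) (U := ⊤) trivial
  obtain ⟨V', hV', hyV', hle⟩ := exists_isAffineOpen_mem_and_subset (X := S') (x := y) (U := W ⊓ g ⁻¹ᵁ V)
    ⟨hy, hyV⟩
  exact ⟨V', fun a ha => (hle ha).1, hyV',
    theta_app_bijective sq G hflat hK R R' hV hV' (fun a ha => (hle ha).2)⟩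

include sq hflat in
/-- Base change of higher direct images, tensored with a module flat over the base. -/
theorem nonempty_iso [HasInjectiveResolutions X.Modules] [HasInjectiveResolutions X'.Modules] (i : ℕ) :
    Nonempty ((tensPull g G).obj ((Coh.Rpush f i).obj M) ≅
      (Coh.Rpush f' i).obj ((tensPull g' ((Scheme.Modules.pullback f').obj G)).obj M)) := by
  have hK := flat_pullback sq G hflat
  let R := injectiveResolution M
  let R' := injectiveResolution ((tensPull g' ((Scheme.Modules.pullback f').obj G)).obj M)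
  cases i with
  | zero =>
    haveI := isIso_theta sq G hflat hK R R'
    exact ⟨(tensPull g G).mapIso ((Scheme.Modules.pushforward f).rightDerivedZeroIsoSelf.app M ≪≫
        (Scheme.Modules.pushforward f).mapIso (cycZero R)) ≪≫ asIso (theta sq G (phiZ hK R R' 0)) ≪≫
      ((Scheme.Modules.pushforward f').rightDerivedZeroIsoSelf.app _ ≪≫
        (Scheme.Modules.pushforward f').mapIso (cycZero R')).symm⟩
  | succ m =>
    haveI := isIso_psi sq G hflat hK R R' m
    obtain ⟨e⟩ := nonempty_rpush_succ_iso f R m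
    obtain ⟨e'⟩ := nonempty_rpush_succ_iso f' R' m
    exact ⟨(tensPull g G).mapIso e ≪≫ asIso (psi sq G hK R R' m) ≪≫ e'.symm⟩

end Groth.Agent.Coh69.TensBC
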