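import Groth.Agent.Coh69.TensBC.QI
import Groth.Agent.LimTop61.PullBC
import Groth.Agent.Mum71.TensorSec
import Groth.Agent.FlatMor68.FlatSections
import Groth.Agent.Coh69.AffVanish
import Groth.Agent.QCPull72.Sections
import Groth.Agent.QCTens72.Basic
import Mathlib.AlgebraicGeometry.Morphisms.Affine
import Mathlib.RingTheory.IsTensorProduct

/-! The comparison maps over affine opens. -/

set_option autoImplicit false
set_option backward.isDefEq.respectTransparency.types false
set_option maxSynthPendingDepth 6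
set_option linter.style.haveILetI false

noncomputable section

universe u

open CategoryTheory Limits AlgebraicGeometry TopologicalSpace Opposite
open scoped TensorProduct

namespace Groth.Agent.Coh69.TensBC

theorem bijective_external {A B C C' : Type u} [CommRing A] [CommRing B] [CommRing C] [CommRing C']
    [Algebra A B] [Algebra A C] [Algebra A C'] [Algebra B C'] [Algebra C C'] [IsScalarTower A B C']
    [IsScalarTower A C C'] [Algebra.IsPushout A B C C']
    {G F : Type u} [AddCommGroup G] [Module A G] [Module B G] [IsScalarTower A B G]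
    [AddCommGroup F] [Module A F] [Module C F] [IsScalarTower A C F]
    (φ : G ⊗[A] F →+ (C' ⊗[B] G) ⊗[C'] (C' ⊗[C] F))
    (h : ∀ x m, φ (x ⊗ₜ m) = (1 ⊗ₜ[B] x) ⊗ₜ[C'] (1 ⊗ₜ[C] m)) : Function.Bijective φ := by
  haveI : Algebra.IsPushout A C B C' := Algebra.IsPushout.symm inferInstance
  let e₂ : C' ⊗[B] G ≃ₗ[C] C ⊗[A] G := Algebra.IsPushout.cancelBaseChange A C B C' G
  let e : (C' ⊗[B] G) ⊗[C'] (C' ⊗[C] F) ≃+ G ⊗[A] F :=
    (TensorProduct.AlgebraTensorModule.cancelBaseChange C C' C' (C' ⊗[B] G) F).toAddEquiv.trans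
      ((TensorProduct.congr e₂ (LinearEquiv.refl C F)).toAddEquiv.trans
        ((TensorProduct.comm C (C ⊗[A] G) F).toAddEquiv.trans
          ((TensorProduct.AlgebraTensorModule.cancelBaseChange A C C F G).toAddEquiv.trans
            (TensorProduct.comm A F G).toAddEquiv)))
  have he : ∀ t, e (φ t) = t := fun t => by
    induction t using TensorProduct.induction_on with
    | zero => simp
    | add x y hx hy => simp [hx, hy]
    | tmul x m =>
      rw [h]
      simp [e, e₂]
  rw [show ⇑φ = e.symm from funext fun t => e.eq_symm_apply.2 (he t)]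
  exact e.symm.bijective

/-- Cycles are boundaries over affine opens, for resolutions of quasi-coherent modules. -/
theorem cycπ_app_surjective {Y : Scheme.{u}} {M : Y.Modules} [M.IsQuasicoherent] (R : InjectiveResolution M)
    {U : Y.Opens} (hU : IsAffineOpen U) (j : ℕ) : Function.Surjective ((cycπ R j).app U) := by
  intro s
  haveI : (cycZ R 0).IsQuasicoherent := QC70.isQuasicoherent_of_iso (cycZero R) ‹M.IsQuasicoherent›
  exact ((flResOfInj R).secExt_eq_zero_iff U j s).1 ((qcoh_subsingleton_HE (cycZ R 0) hU j).elim _ _)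

variable {X S X' S' : Scheme.{u}} {f : X ⟶ S} {g : S' ⟶ S} {g' : X' ⟶ X} {f' : X' ⟶ S'}
  (sq : IsPullback g' f' f g) (G : S'.Modules) [G.IsQuasicoherent] {V : S.Opens} (hV : IsAffineOpen V)
  {V' : S'.Opens} (hV' : IsAffineOpen V') (eV : V' ≤ g ⁻¹ᵁ V)

include hV hV' eV in
omit [G.IsQuasicoherent] in
theorem isAffineOpen_upOpen (sq : IsPullback g' f' f g) {U : X.Opens} (hU : IsAffineOpen U)
    (eU : U ≤ f ⁻¹ᵁ V) : IsAffineOpen (upOpen g' f' V' U) := by
  have : IsAffine _ := hV
  have : IsAffine _ := hV'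
  have : IsAffine _ := hU
  exact .of_isIso (Scheme.Hom.isPullback_resLE sq.flip eU eV (inf_comm _ _)).isoPullback.hom

include hV hV' in
/-- Over affine opens, the identity map is bijective on sections. -/
theorem hSec_id_bijective (M : X.Modules) [M.IsQuasicoherent] {U : X.Opens} (hU : IsAffineOpen U)
    (eU : U ≤ f ⁻¹ᵁ V) :
    Function.Bijective (hSec sq G V' eV
      (𝟙 ((tensPull g' ((Scheme.Modules.pullback f').obj G)).obj M)) U eU) := by
  haveI := QCPull72.isQuasicoherent_pullback f' G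
  haveI := QCPull72.isQuasicoherent_pullback g' M
  have hW : IsAffineOpen (upOpen g' f' V' U) := isAffineOpen_upOpen hV hV' eV sq hU eU
  let W := upOpen g' f' V' U
  letI := (g.appLE V V' eV).hom.toAlgebra
  letI := (f.appLE V U eU).hom.toAlgebra
  letI := (f'.appLE V' W inf_le_right).hom.toAlgebra
  letI := (g'.appLE U W inf_le_left).hom.toAlgebra
  letI : Algebra Γ(S, V) Γ(X', W) := (g.appLE V V' eV ≫ f'.appLE V' W inf_le_right).hom.toAlgebra
  have hc : W = f' ⁻¹ᵁ V' ⊓ g' ⁻¹ᵁ U := inf_comm _ _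
  have h1 := (isIso_pushoutSection_iff sq.flip eU eV hc).1
    (isIso_pushoutSection_of_isAffineOpen sq.flip eU eV hc hV hU hV')
  haveI : IsScalarTower Γ(S, V) Γ(S', V') Γ(X', W) := .of_algebraMap_eq' rfl
  haveI : IsScalarTower Γ(S, V) Γ(X, U) Γ(X', W) :=
    .of_algebraMap_eq' (congrArg CommRingCat.Hom.hom h1.w)
  haveI : Algebra.IsPushout Γ(S, V) Γ(S', V') Γ(X, U) Γ(X', W) :=
    CommRingCat.isPushout_iff_isPushout.1 h1
  letI : Module Γ(S, V) Γ(G, V') := Module.compHom _ (g.appLE V V' eV).hom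
  haveI : IsScalarTower Γ(S, V) Γ(S', V') Γ(G, V') := IsScalarTower.of_algebraMap_smul fun _ _ => rfl
  letI : Module Γ(S, V) Γ(M, U) := Module.compHom _ (f.appLE V U eU).hom
  haveI : IsScalarTower Γ(S, V) Γ(X, U) Γ(M, U) := IsScalarTower.of_algebraMap_smul fun _ _ => rfl
  obtain ⟨EK, hEK⟩ := LimTop61.exists_baseChange_equiv f' G hV' hW inf_le_right
  obtain ⟨EM, hEM⟩ := LimTop61.exists_baseChange_equiv g' M hU hW inf_le_left
  obtain ⟨E, hE⟩ := Mum71.exists_tensor_equiv ((Scheme.Modules.pullback f').obj G)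
    ((Scheme.Modules.pullback g').obj M) hW
  let c : ((Γ(X', W) ⊗[Γ(S', V')] Γ(G, V')) ⊗[Γ(X', W)] (Γ(X', W) ⊗[Γ(X, U)] Γ(M, U))) ≃+
      Γ((tensPull g' ((Scheme.Modules.pullback f').obj G)).obj M, W) :=
    (TensorProduct.congr EK.symm EM.symm).toAddEquiv.trans E.toAddEquiv
  let φ : Γ(G, V') ⊗[Γ(S, V)] Γ(M, U) →+ _ := c.symm.toAddMonoidHom.comp
    (hSec sq G V' eV (𝟙 ((tensPull g' ((Scheme.Modules.pullback f').obj G)).obj M)) U eU)
  have hφ : Function.Bijective φ := bijective_external φ fun x m => by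
    refine (AddEquiv.symm_apply_eq c).2 ?_
    show pairS (f' := f') (g' := g') G V' M U x m = E (EK.symm (1 ⊗ₜ x) ⊗ₜ EM.symm (1 ⊗ₜ m))
    rw [← hEK x, ← hEM m, LinearEquiv.symm_apply_apply, LinearEquiv.symm_apply_apply, hE]
    rfl
  have := c.bijective.comp hφ
  rwa [show ⇑c ∘ ⇑φ = hSec sq G V' eV (𝟙 ((tensPull g' ((Scheme.Modules.pullback f').obj G)).obj M)) U eU
    from funext fun t => c.apply_symm_apply _] at this

include hV hV' in
theorem hSec_bijective_affine (M : X.Modules) [M.IsQuasicoherent] {M' : X'.Modules}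
    (φ : (tensPull g' ((Scheme.Modules.pullback f').obj G)).obj M ⟶ M') [IsIso φ] {U : X.Opens}
    (hU : IsAffineOpen U) (eU : U ≤ f ⁻¹ᵁ V) : Function.Bijective (hSec sq G V' eV φ U eU) := by
  have h := hSec_id_bijective sq G hV hV' eV M hU eU
  have e : ∀ t, hSec sq G V' eV φ U eU t = φ.app _ (hSec sq G V' eV
      (𝟙 ((tensPull g' ((Scheme.Modules.pullback f').obj G)).obj M)) U eU t) := fun t => by
    induction t using TensorProduct.induction_on with
    | zero => simp only [map_zero]
    | add x y hx hy => simp only [map_add, hx, hy]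
    | tmul γ m => rfl
  rw [show ⇑(hSec sq G V' eV φ U eU) = φ.app _ ∘ hSec sq G V' eV
      (𝟙 ((tensPull g' ((Scheme.Modules.pullback f').obj G)).obj M)) U eU from funext e]
  exact (ConcreteCategory.bijective_of_isIso (φ.app _)).comp h

variable (hflat : FlatMod.IsFlatOver g G)

include hV hV' hflat in
theorem flat_sec : Module.Flat Γ(S, V) (Sec g G V' eV) :=
  FlatMor68.FlatSections.flat_sections g eV hV' hV (QC70.isLocAt_of_isQuasicoherent G hV') fun x _ => hflat x

include hV hV' hflat in
/-- The comparison of resolutions is bijective on cohomology. -/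
theorem phiCyc_qi (hK : FlatMod.IsFlatOver g' ((Scheme.Modules.pullback f').obj G))
    {M : X.Modules} [M.IsQuasicoherent] (R : InjectiveResolution M)
    (R' : InjectiveResolution ((tensPull g' ((Scheme.Modules.pullback f').obj G)).obj M))
    [QuasiSeparated f] (U : X.Opens) (eU : U ≤ f ⁻¹ᵁ V) (hU : IsCompact (U : Set X)) :
    haveI := flat_sec G hV hV' eV hflat
    (phiCyc sq G V' eV R hK R' U eU).QI := by
  haveI := flat_sec G hV hV' eV hflat
  haveI : IsAffine V.toScheme := hV
  haveI : QuasiSeparatedSpace (f ⁻¹ᵁ V).toScheme := quasiSeparatedSpace_of_quasiSeparated (f ∣_ V)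
  haveI := QCPull72.isQuasicoherent_pullback f' G
  haveI := QCPull72.isQuasicoherent_pullback g' M
  haveI : ((tensPull g' ((Scheme.Modules.pullback f').obj G)).obj M).IsQuasicoherent :=
    QCTens72.isQuasicoherent_tensorMod ((Scheme.Modules.pullback f').obj G) ((Scheme.Modules.pullback g').obj M)
  haveI : (cycZ R 0).IsQuasicoherent := QC70.isQuasicoherent_of_iso (cycZero R) ‹M.IsQuasicoherent›
  refine qi_of_affine sq G V' eV R hK R' (fun U e hUa => ?_) U eU hU
  exact CycHom.qi_of_surjective _ (hSec_bijective_affine sq G hV hV' eV (cycZ R 0) (phiZ hK R R' 0) hUa e)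
    (fun j => LinearMap.lTensor_surjective _ (g := sMap f (cycπ R j) U e) (cycπ_app_surjective R hUa j))
    (fun j => cycπ_app_surjective R' (isAffineOpen_upOpen hV hV' eV sq hUa e) j)

end Groth.Agent.Coh69.TensBC
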