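import Mathlib.Algebra.Category.Grp.Basic
import Mathlib.LinearAlgebra.TensorProduct.Prod
import Mathlib.RingTheory.Flat.Basic

/-!
Maps of resolutions cut into cycles, bijective on cohomology, and the Mayer-Vietoris step.
-/

set_option autoImplicit false

universe u

open scoped TensorProduct

namespace Groth.Agent.Coh69.TensBC

/-- The value of a resolution cut into cycles. -/
structure Cyc where
  Z : ℕ → AddCommGrpCat.{u}
  I : ℕ → AddCommGrpCat.{u}
  ι : ∀ j, Z j →+ I j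
  π : ∀ j, I j →+ Z (j + 1)
  ι_inj : ∀ j, Function.Injective (ι j)
  π_ι : ∀ j a, π j (ι j a) = 0
  exact : ∀ j y, π j y = 0 → ∃ a, ι j a = y

/-- Maps of such values. -/
structure CycHom (L K : Cyc.{u}) where
  z : ∀ j, L.Z j →+ K.Z j
  i : ∀ j, L.I j →+ K.I j
  comm_ι : ∀ j a, i j (L.ι j a) = K.ι j (z j a)
  comm_π : ∀ j y, z (j + 1) (L.π j y) = K.π j (i j y)

namespace CycHom

variable {L K : Cyc.{u}} (φ : CycHom L K)

/-- Bijectivity on cohomology. -/
structure QI : Prop where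
  bij₀ : Function.Bijective (φ.z 0)
  surj : ∀ j (z' : K.Z (j + 1)), ∃ t y', φ.z (j + 1) t + K.π j y' = z'
  inj : ∀ j (t : L.Z (j + 1)) (y' : K.I j), φ.z (j + 1) t = K.π j y' → ∃ y, L.π j y = t

theorem qi_of_surjective (h₀ : Function.Bijective (φ.z 0)) (hL : ∀ j, Function.Surjective (L.π j))
    (hK : ∀ j, Function.Surjective (K.π j)) : φ.QI where
  bij₀ := h₀
  surj j z' := by
    obtain ⟨y', rfl⟩ := hK j z'
    exact ⟨0, y', by rw [map_zero, zero_add]⟩
  inj j t _ _ := hL j t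

end CycHom

/-- Data on the union, the two parts and the intersection, as in a sheaf with surjective restrictions
on the middle terms. -/
structure Cyc.MV (LT LU LV LW : Cyc.{u}) where
  tu : CycHom LT LU
  tv : CycHom LT LV
  uw : CycHom LU LW
  vw : CycHom LV LW
  injZ : ∀ j a, tu.z j a = 0 → tv.z j a = 0 → a = 0
  glueZ : ∀ j a b, uw.z j a = vw.z j b → ∃ c, tu.z j c = a ∧ tv.z j c = b
  injI : ∀ j a, tu.i j a = 0 → tv.i j a = 0 → a = 0
  glueI : ∀ j a b, uw.i j a = vw.i j b → ∃ c, tu.i j c = a ∧ tv.i j c = b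
  surjI : ∀ j, Function.Surjective (uw.i j)

variable {LT LU LV LW KT KU KV KW : Cyc.{u}} (L : Cyc.MV LT LU LV LW) (K : Cyc.MV KT KU KV KW)
  (φT : CycHom LT KT) (φU : CycHom LU KU) (φV : CycHom LV KV) (φW : CycHom LW KW)

/-- Compatibility of comparison maps with restrictions. -/
structure Compat {A B A' B' : Cyc.{u}} (r : CycHom A B) (r' : CycHom A' B') (φ : CycHom A A')
    (ψ : CycHom B B') : Prop where
  z : ∀ j a, ψ.z j (r.z j a) = r'.z j (φ.z j a)
  i : ∀ j a, ψ.i j (r.i j a) = r'.i j (φ.i j a)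

/-- Bijectivity on cohomology glues. -/
theorem CycHom.QI.union (ctu : Compat L.tu K.tu φT φU) (ctv : Compat L.tv K.tv φT φV)
    (cuw : Compat L.uw K.uw φU φW) (cvw : Compat L.vw K.vw φV φW)
    (hLw : ∀ j c, L.uw.z j (L.tu.z j c) = L.vw.z j (L.tv.z j c))
    (hKw : ∀ j c, K.uw.z j (K.tu.z j c) = K.vw.z j (K.tv.z j c))
    (hKwI : ∀ j c, K.uw.i j (K.tu.i j c) = K.vw.i j (K.tv.i j c))
    (hU : φU.QI) (hV : φV.QI) (hW : φW.QI) : φT.QI where
  bij₀ := by
    refine ⟨(injective_iff_map_eq_zero _).2 fun a ha => L.injZ 0 a ?_ ?_, fun z' => ?_⟩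
    · exact hU.bij₀.1 (by rw [ctu.z, ha, map_zero, map_zero])
    · exact hV.bij₀.1 (by rw [ctv.z, ha, map_zero, map_zero])
    · obtain ⟨a, ha⟩ := hU.bij₀.2 (K.tu.z 0 z')
      obtain ⟨b, hb⟩ := hV.bij₀.2 (K.tv.z 0 z')
      obtain ⟨c, rfl, rfl⟩ := L.glueZ 0 a b (hW.bij₀.1 (by rw [cuw.z, cvw.z, ha, hb, hKw]))
      refine ⟨c, sub_eq_zero.1 (K.injZ 0 _ ?_ ?_)⟩
      · rw [map_sub, ← ctu.z, ha, sub_self]
      · rw [map_sub, ← ctv.z, hb, sub_self]
  surj j z' := by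
    obtain ⟨tU, yU, hyU⟩ := hU.surj j (K.tu.z _ z')
    obtain ⟨tV, yV, hyV⟩ := hV.surj j (K.tv.z _ z')
    -- make the cycles agree on the intersection
    have h1 : φW.z (j + 1) (L.uw.z _ tU - L.vw.z _ tV) = KW.π j (K.vw.i j yV - K.uw.i j yU) := by
      rw [map_sub, map_sub, cuw.z, cvw.z, eq_sub_of_add_eq hyU, eq_sub_of_add_eq hyV, map_sub,
        map_sub, hKw, ← K.uw.comm_π, ← K.vw.comm_π]
      abel
    obtain ⟨y, hy⟩ := hW.inj j _ _ h1
    obtain ⟨y₁, rfl⟩ := L.surjI j y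
    obtain ⟨tU₁, htU₁⟩ : ∃ x, x = tU - LU.π j y₁ := ⟨_, rfl⟩
    obtain ⟨yU₁, hyU₁'⟩ : ∃ x, x = yU + φU.i j y₁ := ⟨_, rfl⟩
    have hyU₁ : φU.z (j + 1) tU₁ + KU.π j yU₁ = K.tu.z _ z' := by
      rw [htU₁, hyU₁', map_sub, map_add, φU.comm_π, ← hyU]
      abel
    have htW : L.uw.z _ tU₁ = L.vw.z _ tV := by
      rw [htU₁, map_sub, L.uw.comm_π, hy]
      abel
    have hπW : KW.π j (K.uw.i j yU₁ - K.vw.i j yV) = 0 := by
      rw [map_sub, ← K.uw.comm_π, ← K.vw.comm_π, eq_sub_of_add_eq' hyU₁, eq_sub_of_add_eq' hyV, map_sub,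
        map_sub, hKw, ← cuw.z, ← cvw.z, htW]
      abel
    obtain ⟨c', hc'⟩ := KW.exact j _ hπW
    -- absorb the difference
    obtain ⟨u, v, hv, huv⟩ : ∃ (u : LU.I j) (v : KU.I j), KU.π j v = 0 ∧
        L.uw.z _ (LU.π j u) = 0 ∧ K.uw.i j (φU.i j u + v) = KW.ι j c' := by
      cases j with
      | zero =>
        obtain ⟨a, rfl⟩ := hW.bij₀.2 c'
        obtain ⟨u, hu⟩ := L.surjI 0 (LW.ι 0 a)
        refine ⟨u, 0, map_zero _, ?_, ?_⟩
        · rw [L.uw.comm_π, hu, LW.π_ι]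
        · rw [add_zero, ← cuw.i, hu, φW.comm_ι]
      | succ k =>
        obtain ⟨a, b, rfl⟩ := hW.surj k c'
        obtain ⟨u, hu⟩ := L.surjI (k + 1) (LW.ι (k + 1) a)
        obtain ⟨b₁, rfl⟩ := K.surjI k b
        refine ⟨u, KU.ι (k + 1) (KU.π k b₁), KU.π_ι _ _, ?_, ?_⟩
        · rw [L.uw.comm_π, hu, LW.π_ι]
        · rw [map_add, ← cuw.i, hu, φW.comm_ι, K.uw.comm_ι, K.uw.comm_π, map_add]
    obtain ⟨huW, huv⟩ := huv
    obtain ⟨t, ht, ht'⟩ := L.glueZ (j + 1) (tU₁ + LU.π j u) tV (by rw [map_add, htW, huW, add_zero])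
    obtain ⟨y', hy₁, hy₂⟩ := K.glueI j (yU₁ - (φU.i j u + v)) yV (by
      rw [map_sub, huv, hc']
      abel)
    refine ⟨t, y', sub_eq_zero.1 (K.injZ _ _ ?_ ?_)⟩
    · rw [map_sub, map_add, ← ctu.z, K.tu.comm_π, ht, hy₁, map_add, φU.comm_π, ← hyU₁, map_sub (KU.π j),
        map_add (KU.π j), hv]
      abel
    · rw [map_sub, map_add, ← ctv.z, K.tv.comm_π, ht', hy₂, hyV, sub_self]
  inj j t y' h := by
    obtain ⟨yU, hyU⟩ := hU.inj j (L.tu.z _ t) (K.tu.i j y') (by rw [ctu.z, h, K.tu.comm_π])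
    obtain ⟨yV, hyV⟩ := hV.inj j (L.tv.z _ t) (K.tv.i j y') (by rw [ctv.z, h, K.tv.comm_π])
    suffices h' : ∃ (a : LU.I j) (b : LV.I j), LU.π j a = L.tu.z _ t ∧ LV.π j b = L.tv.z _ t ∧
        L.uw.i j a = L.vw.i j b by
      obtain ⟨a, b, ha, hb, hab⟩ := h'
      obtain ⟨y, rfl, rfl⟩ := L.glueI j a b hab
      refine ⟨y, sub_eq_zero.1 (L.injZ _ _ ?_ ?_)⟩
      · rw [map_sub, L.tu.comm_π, ha, sub_self]
      · rw [map_sub, L.tv.comm_π, hb, sub_self]
    -- differences from the given section are cycles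
    obtain ⟨cU, hcU⟩ := KU.exact j (φU.i j yU - K.tu.i j y') (by
      rw [map_sub, ← φU.comm_π, hyU, ctu.z, h, ← K.tu.comm_π, sub_self])
    obtain ⟨cV, hcV⟩ := KV.exact j (φV.i j yV - K.tv.i j y') (by
      rw [map_sub, ← φV.comm_π, hyV, ctv.z, h, ← K.tv.comm_π, sub_self])
    obtain ⟨aW, haW⟩ := LW.exact j (L.uw.i j yU - L.vw.i j yV) (by
      rw [map_sub, ← L.uw.comm_π, ← L.vw.comm_π, hyU, hyV, hLw, sub_self])
    have hzW : φW.z j aW = K.uw.z j cU - K.vw.z j cV := KW.ι_inj j (by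
      rw [← φW.comm_ι, haW, map_sub, map_sub, ← K.uw.comm_ι, ← K.vw.comm_ι, hcU, hcV, cuw.i, cvw.i,
        map_sub, map_sub, hKwI]
      abel)
    cases j with
    | zero =>
      obtain ⟨aU, rfl⟩ := hU.bij₀.2 cU
      obtain ⟨aV, rfl⟩ := hV.bij₀.2 cV
      refine ⟨yU - LU.ι 0 aU, yV - LV.ι 0 aV, ?_, ?_, ?_⟩
      · rw [map_sub, hyU, LU.π_ι, sub_zero]
      · rw [map_sub, hyV, LV.π_ι, sub_zero]
      · have : aW = L.uw.z 0 aU - L.vw.z 0 aV := hW.bij₀.1 (by rw [hzW, map_sub, cuw.z, cvw.z])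
        rw [← sub_eq_zero, map_sub, map_sub, L.uw.comm_ι, L.vw.comm_ι,
          show L.uw.i 0 yU = L.vw.i 0 yV + LW.ι 0 aW by rw [haW]; abel, this, map_sub]
        abel
    | succ k =>
      obtain ⟨aU, bU, rfl⟩ := hU.surj k cU
      obtain ⟨aV, bV, rfl⟩ := hV.surj k cV
      obtain ⟨c, hc⟩ := hW.inj k (aW - L.uw.z _ aU + L.vw.z _ aV) (K.uw.i k bU - K.vw.i k bV) (by
        rw [map_add, map_sub, hzW, cuw.z, cvw.z, map_add, map_add, map_sub, K.uw.comm_π, K.vw.comm_π]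
        abel)
      obtain ⟨c₁, rfl⟩ := L.surjI k c
      refine ⟨yU - LU.ι (k + 1) (aU + LU.π k c₁), yV - LV.ι (k + 1) aV, ?_, ?_, ?_⟩
      · rw [map_sub, hyU, LU.π_ι, sub_zero]
      · rw [map_sub, hyV, LV.π_ι, sub_zero]
      · rw [← sub_eq_zero, map_sub, map_sub, L.uw.comm_ι, L.vw.comm_ι, map_add, L.uw.comm_π, hc,
          show L.uw.i (k + 1) yU = L.vw.i (k + 1) yV + LW.ι (k + 1) aW by rw [haW]; abel,
          map_add, map_add, map_sub]
        abel

/-! ### Flatness -/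

section Flat

variable {A : Type u} [CommRing A] (N : Type u) [AddCommGroup N] [Module A N] [Module.Flat A N]
  {M P Q R : Type u} [AddCommGroup M] [Module A M] [AddCommGroup P] [Module A P]
  [AddCommGroup Q] [Module A Q] [AddCommGroup R] [Module A R]
  (a : M →ₗ[A] P) (b : M →ₗ[A] Q) (c : P →ₗ[A] R) (d : Q →ₗ[A] R)

theorem eq_zero_lTensor (hinj : ∀ m, a m = 0 → b m = 0 → m = 0) (t : N ⊗[A] M)
    (ha : a.lTensor N t = 0) (hb : b.lTensor N t = 0) : t = 0 := by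
  have hi : Function.Injective (a.prod b) := (injective_iff_map_eq_zero _).2 fun m hm => by
    simp only [LinearMap.prod_apply, Function.prod, Prod.mk_eq_zero] at hm
    exact hinj m hm.1 hm.2
  have e : ∀ t : N ⊗[A] M, TensorProduct.prodRight A A N P Q ((a.prod b).lTensor N t) =
      (a.lTensor N t, b.lTensor N t) := fun t => by
    induction t using TensorProduct.induction_on with
    | zero => simp only [map_zero]; rfl
    | add x y hx hy => simp [hx, hy]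
    | tmul n m => simp
  refine Module.Flat.lTensor_preserves_injective_linearMap (M := N) _ hi ?_
  rw [map_zero]
  refine (TensorProduct.prodRight A A N P Q).injective ?_
  rw [e, ha, hb, map_zero]
  rfl

theorem exists_lTensor_glue (hc : ∀ m, c (a m) = d (b m))
    (hglue : ∀ p q, c p = d q → ∃ m, a m = p ∧ b m = q) (s : N ⊗[A] P) (t : N ⊗[A] Q)
    (h : c.lTensor N s = d.lTensor N t) : ∃ m, a.lTensor N m = s ∧ b.lTensor N m = t := by
  let k : P × Q →ₗ[A] R := c.coprod (-d)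
  have hex : Function.Exact (a.prod b) k := fun x => by
    constructor
    · intro hx
      obtain ⟨m, h₁, h₂⟩ := hglue x.1 x.2 (by simpa [k, ← sub_eq_add_neg, sub_eq_zero] using hx)
      exact ⟨m, Prod.ext h₁ h₂⟩
    · rintro ⟨m, rfl⟩
      simp [k, hc]
  have e₁ : ∀ m : N ⊗[A] M, TensorProduct.prodRight A A N P Q ((a.prod b).lTensor N m) =
      (a.lTensor N m, b.lTensor N m) := fun m => by
    induction m using TensorProduct.induction_on with
    | zero => simp only [map_zero]; rfl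
    | add x y hx hy => simp [hx, hy]
    | tmul n m => simp
  have e₂ : ∀ w : N ⊗[A] (P × Q), k.lTensor N w =
      c.lTensor N (TensorProduct.prodRight A A N P Q w).1 - d.lTensor N (TensorProduct.prodRight A A N P Q w).2 :=
    fun w => by
    induction w using TensorProduct.induction_on with
    | zero => simp
    | add x y hx hy => rw [map_add, hx, hy, map_add]; simp only [Prod.fst_add, Prod.snd_add, map_add]; abel
    | tmul n x => simp [k, TensorProduct.tmul_add, TensorProduct.tmul_neg, sub_eq_add_neg]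
  obtain ⟨w, hw⟩ := (TensorProduct.prodRight A A N P Q).surjective (s, t)
  obtain ⟨m, rfl⟩ := (Module.Flat.lTensor_exact N hex w).1 (by rw [e₂, hw, h, sub_self])
  rw [e₁] at hw
  exact ⟨m, congrArg Prod.fst hw, congrArg Prod.snd hw⟩

end Flat

end Groth.Agent.Coh69.TensBC
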