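import Groth.Agent.Coh69.RpushQCoh
import Groth.Agent.DCK91.StalkTensorNat
import Groth.Agent.QC70.HomMod
import Groth.Agent.GRec72.Tensor
import Groth.Agent.FMK72.Exact
import Groth.Prelude.Def_FlatMod2

/-! The functor `M ↦ K ⊗ g^*M` for a module `K` flat over the target. -/

set_option autoImplicit false
set_option backward.isDefEq.respectTransparency.types false
set_option maxSynthPendingDepth 6
set_option linter.style.haveILetI false

noncomputable section

universe u

open CategoryTheory Limits AlgebraicGeometry TopologicalSpace Opposite MonoidalCategory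
open Groth.Agent.QC70
open scoped TensorProduct

namespace Groth.Agent.Coh69.TensBC

variable {X X' : Scheme.{u}} (g : X' ⟶ X) (K : X'.Modules)

/-- `M ↦ K ⊗ g^*M`. -/
abbrev tensPull : X.Modules ⥤ X'.Modules :=
  Scheme.Modules.pullback g ⋙ (DCoh.tensorBi (X := X')).obj K

/-- The right adjoint of `M ↦ K ⊗ g^*M`. -/
def tensPullAdj : tensPull g K ⊣ QC70.homFunctor K ⋙ Scheme.Modules.pushforward g :=
  (Scheme.Modules.pullbackPushforwardAdjunction g).comp (QC70.homModAdj K)

instance : (tensPull g K).IsLeftAdjoint := (tensPullAdj g K).isLeftAdjoint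

/-- Tensoring on the left, on pure tensors. -/
theorem tensorBi_map_tmul {M N : X'.Modules} (f : M ⟶ N) (U : X'.Opens) (k : Γ(K, U)) (m : Γ(M, U)) :
    (((DCoh.tensorBi (X := X')).obj K).map f).app U (SecTwist.tmul K M U k m) =
      SecTwist.tmul K N U k (f.app U m) := by
  have h := congrArg (fun q => (PresheafOfModules.Hom.app q (op U)).hom
    (Mod48.tp (O := X'.sheaf) (M := CohB1.toPMod K) (N := CohB1.toPMod M) (X := op U) k m))
    ((PresheafOfModules.sheafificationAdjunction (𝟙 X'.ringCatSheaf.obj)).unit.naturality
      (show (CohB1.tensorPre K M : X'.PresheafOfModules) ⟶ CohB1.tensorPre K N from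
        CohB1.toPMod K ◁ (show CohB1.toPMod M ⟶ CohB1.toPMod N from f.val)))
  exact h.symm

/-- Tensoring with a module flat over the target preserves monomorphisms after inverse image. -/
theorem mono_tensPull_map (hK : FlatMod.IsFlatOver g K) {A B : X.Modules} (u : A ⟶ B) [Mono u] :
    Mono ((tensPull g K).map u) := by
  rw [FlatMor68.PullbackDescent.mono_iff]
  intro x
  let algS := (g.stalkMap x).hom.toAlgebra
  letI := algS
  let u' := (Scheme.Modules.pullback g).map u
  letI iA := Module.compHom (((Scheme.Modules.pullback g).obj A).presheaf.stalk x) (g.stalkMap x).hom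
  haveI : IsScalarTower (X.presheaf.stalk (g x)) (X'.presheaf.stalk x)
      (((Scheme.Modules.pullback g).obj A).presheaf.stalk x) := IsScalarTower.of_algebraMap_smul fun _ _ => rfl
  letI iB := Module.compHom (((Scheme.Modules.pullback g).obj B).presheaf.stalk x) (g.stalkMap x).hom
  haveI : IsScalarTower (X.presheaf.stalk (g x)) (X'.presheaf.stalk x)
      (((Scheme.Modules.pullback g).obj B).presheaf.stalk x) := IsScalarTower.of_algebraMap_smul fun _ _ => rfl
  letI iK : Module (X.presheaf.stalk (g x)) (K.presheaf.stalk x) := FlatMod.moduleStalkOver g K x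
  let EA := (DCK91.isBaseChange_pullη g A x).equiv.symm
  let EB := (DCK91.isBaseChange_pullη g B x).equiv.symm
  have hu : Function.Injective (stalkLinear u (g x)) :=
    ((FlatMor68.PullbackDescent.mono_iff u).1 inferInstance) (g x)
  have hinj : Function.Injective ((stalkLinear u' x).rTensor (K.presheaf.stalk x)) := by
    refine FMK72.injective_of_flat (fun _ _ => rfl) (hK x) EA EB (stalkLinear u (g x)) hu _ fun a => ?_
    simp only [EA, EB, LinearEquiv.symm_symm, IsBaseChange.equiv_tmul, one_smul]
    obtain ⟨W, hW, t, rfl⟩ := germM_exist a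
    show stalkMapM u' x (DCK91.pullη g A x (germM A W (g x) hW t)) =
      DCK91.pullη g B x (stalkMapM u (g x) (germM A W (g x) hW t))
    rw [stalkMapM_germ, DCK91.pullη_germ, DCK91.pullη_germ, stalkMapM_germ]
    exact congrArg _ (Amp73.map_app_pullS g u W t)
  have hl : Function.Injective ((stalkLinear u' x).lTensor (K.presheaf.stalk x)) := by
    rw [← LinearMap.comm_comp_rTensor_comp_comm_eq (g := stalkLinear u' x) (Q := K.presheaf.stalk x)]
    exact (TensorProduct.comm _ _ _).injective.comp (hinj.comp (TensorProduct.comm _ _ _).injective)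
  have key := DCK91.tensorStalk_right x K u'
  have hb := fun N => (ConcreteCategory.isIso_iff_bijective (DCK91.tensorStalk x K N)).1 inferInstance
  intro e e' he
  obtain ⟨a, rfl⟩ := (hb _).2 e
  obtain ⟨a', rfl⟩ := (hb _).2 e'
  have h1 := congr($key a)
  have h2 := congr($key a')
  simp only [ConcreteCategory.comp_apply] at h1 h2
  rw [DCK91.SP_map_apply] at h1 h2
  have h3 := (hb _).1 (h1.trans ((show _ = _ from he).trans h2.symm))
  refine congrArg _ (hl ?_)
  have hsp : (DCK91.SP x).map u' = ModuleCat.ofHom (stalkLinear u' x) :=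
    ModuleCat.hom_ext (LinearMap.ext fun e => DCK91.SP_map_apply x u' e)
  rw [hsp] at h3
  exact h3

end Groth.Agent.Coh69.TensBC
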