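import Groth.Agent.Coh69.TensBC.Sections
import Groth.Agent.Coh69.RelVanish

/-! The comparison of resolutions is bijective on cohomology: reduction to affine opens. -/

set_option autoImplicit false
set_option backward.isDefEq.respectTransparency.types false
set_option maxSynthPendingDepth 6
set_option linter.style.haveILetI false

noncomputable section

universe u

open CategoryTheory Limits AlgebraicGeometry TopologicalSpace Opposite
open scoped TensorProduct

namespace Groth.Agent.Coh69.TensBC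

section Res

variable {Y : Scheme.{u}} {M : Y.Modules} (R : InjectiveResolution M)

theorem cycι_app_injective (j : ℕ) (U : Y.Opens) :
    Function.Injective ((kernel.ι (R.cocomplex.d j (j + 1))).app U) :=
  sect_injective ((flResOfInj R).shortExact j) U

theorem cycπ_app_ι (j : ℕ) (U : Y.Opens) (a : Γ(cycZ R j, U)) :
    (cycπ R j).app U ((kernel.ι (R.cocomplex.d j (j + 1))).app U a) = 0 :=
  sect_f_g (S := ShortComplex.mk _ _ ((flResOfInj R).w j)) U a

theorem cyc_app_exact (j : ℕ) (U : Y.Opens) (y : Γ(R.cocomplex.X j, U)) (h : (cycπ R j).app U y = 0) :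
    ∃ a, (kernel.ι (R.cocomplex.d j (j + 1))).app U a = y :=
  sect_exact ((flResOfInj R).shortExact j) U y h

/-- A resolution on an open. -/
def resCyc (U : Y.Opens) : Cyc.{u} where
  Z j := AddCommGrpCat.of Γ(cycZ R j, U)
  I j := AddCommGrpCat.of Γ(R.cocomplex.X j, U)
  ι j := ((kernel.ι (R.cocomplex.d j (j + 1))).app U).hom
  π j := ((cycπ R j).app U).hom
  ι_inj j := cycι_app_injective R j U
  π_ι j a := cycπ_app_ι R j U a
  exact j y h := cyc_app_exact R j U y h

/-- Restriction of a resolution. -/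
def resCycMap {U U₂ : Y.Opens} (h : U₂ ≤ U) : CycHom (resCyc R U) (resCyc R U₂) where
  z j := ((cycZ R j).presheaf.map (homOfLE h).op).hom
  i j := ((R.cocomplex.X j).presheaf.map (homOfLE h).op).hom
  comm_ι j a := (QC70.app_res (kernel.ι (R.cocomplex.d j (j + 1))) h a).symm
  comm_π j y := (QC70.app_res (cycπ R j) h y).symm

/-- A resolution on two opens, their union and their intersection. -/
def resMV {T A B W : Y.Opens} (hA : A ≤ T) (hB : B ≤ T) (hWA : W ≤ A) (hWB : W ≤ B) (hW : A ⊓ B ≤ W)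
    (hT : T ≤ A ⊔ B) : Cyc.MV (resCyc R T) (resCyc R A) (resCyc R B) (resCyc R W) where
  tu := resCycMap R hA
  tv := resCycMap R hB
  uw := resCycMap R hWA
  vw := resCycMap R hWB
  injZ j a := eq_zero_of_res₂ (cycZ R j) hA hB hT a
  glueZ j a b h := exists_glue₂ (cycZ R j) hA hB hWA hWB hW hT a b h
  injI j a := eq_zero_of_res₂ (R.cocomplex.X j) hA hB hT a
  glueI j a b h := exists_glue₂ (R.cocomplex.X j) hA hB hWA hWB hW hT a b h
  surjI j := QC70.restriction_surjective_of_injective (R.cocomplex.X j) hWA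

end Res

variable {X S X' S' : Scheme.{u}} {f : X ⟶ S} {g : S' ⟶ S} {g' : X' ⟶ X} {f' : X' ⟶ S'}
  (sq : IsPullback g' f' f g) (G : S'.Modules) {V : S.Opens} (V' : S'.Opens) (eV : V' ≤ g ⁻¹ᵁ V)
  [Module.Flat Γ(S, V) (Sec g G V' eV)] {M : X.Modules} (R : InjectiveResolution M)

/-- A resolution on an open of the source, tensored with the sections downstairs. -/
def tensCyc (U : X.Opens) (e : U ≤ f ⁻¹ᵁ V) : Cyc.{u} where
  Z j := AddCommGrpCat.of ((Sec g G V' eV) ⊗[Γ(S, V)] (Sec f (cycZ R j) U e))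
  I j := AddCommGrpCat.of ((Sec g G V' eV) ⊗[Γ(S, V)] (Sec f (R.cocomplex.X j) U e))
  ι j := ((sMap f (kernel.ι (R.cocomplex.d j (j + 1))) U e).lTensor _).toAddMonoidHom
  π j := ((sMap f (cycπ R j) U e).lTensor _).toAddMonoidHom
  ι_inj j := Module.Flat.lTensor_preserves_injective_linearMap _ (cycι_app_injective R j U)
  π_ι j a := by
    show (sMap f (cycπ R j) U e).lTensor _ ((sMap f (kernel.ι (R.cocomplex.d j (j + 1))) U e).lTensor _ a) = 0
    rw [← LinearMap.lTensor_comp_apply, show sMap f (cycπ R j) U e ∘ₗ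
      sMap f (kernel.ι (R.cocomplex.d j (j + 1))) U e = 0 from LinearMap.ext fun x => cycπ_app_ι R j U x,
      LinearMap.lTensor_zero, LinearMap.zero_apply]
  exact j y h := (Module.Flat.lTensor_exact (R := Γ(S, V)) (Sec g G V' eV) (f := sMap f (kernel.ι (R.cocomplex.d j (j + 1))) U e)
    (g := sMap f (cycπ R j) U e) (fun y => ⟨fun hy => cyc_app_exact R j U y hy,
      fun ⟨a, ha⟩ => ha ▸ cycπ_app_ι R j U a⟩) y).1 h

/-- Restriction. -/
def tensCycMap {U U₂ : X.Opens} (h : U₂ ≤ U) (e : U ≤ f ⁻¹ᵁ V) :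
    CycHom (tensCyc G V' eV R U e) (tensCyc G V' eV R U₂ (h.trans e)) where
  z j := ((sRes f (cycZ R j) h e).lTensor _).toAddMonoidHom
  i j := ((sRes f (R.cocomplex.X j) h e).lTensor _).toAddMonoidHom
  comm_ι j a := by
    show (sRes f (R.cocomplex.X j) h e).lTensor _ ((sMap f _ U e).lTensor _ a) =
      (sMap f (kernel.ι (R.cocomplex.d j (j + 1))) U₂ (h.trans e)).lTensor _
        ((sRes f (cycZ R j) h e).lTensor _ a)
    rw [← LinearMap.lTensor_comp_apply, ← LinearMap.lTensor_comp_apply]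
    congr 2
    exact LinearMap.ext fun m => (app_res_sMap f _ h e m).symm
  comm_π j a := by
    show (sRes f (cycZ R (j + 1)) h e).lTensor _ ((sMap f _ U e).lTensor _ a) =
      (sMap f (cycπ R j) U₂ (h.trans e)).lTensor _ ((sRes f (R.cocomplex.X j) h e).lTensor _ a)
    rw [← LinearMap.lTensor_comp_apply, ← LinearMap.lTensor_comp_apply]
    congr 2
    exact LinearMap.ext fun m => (app_res_sMap f _ h e m).symm

/-- A tensored resolution on two opens, their union and their intersection. -/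
def tensMV {T A B W : X.Opens} (hA : A ≤ T) (hB : B ≤ T) (hWA : W ≤ A) (hWB : W ≤ B) (hW : A ⊓ B ≤ W)
    (hT : T ≤ A ⊔ B) (e : T ≤ f ⁻¹ᵁ V) :
    Cyc.MV (tensCyc G V' eV R T e) (tensCyc G V' eV R A (hA.trans e)) (tensCyc G V' eV R B (hB.trans e))
      (tensCyc G V' eV R W (hWA.trans (hA.trans e))) where
  tu := tensCycMap G V' eV R hA e
  tv := tensCycMap G V' eV R hB e
  uw := tensCycMap G V' eV R hWA (hA.trans e)
  vw := tensCycMap G V' eV R hWB (hB.trans e)
  injZ j a := eq_zero_lTensor _ (sRes f (cycZ R j) hA e) (sRes f (cycZ R j) hB e)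
    (eq_zero_of_res₂ (cycZ R j) hA hB hT) a
  glueZ j a b h := exists_lTensor_glue _ (sRes f (cycZ R j) hA e) (sRes f (cycZ R j) hB e)
    (sRes f (cycZ R j) hWA (hA.trans e)) (sRes f (cycZ R j) hWB (hB.trans e))
    (fun m => (QC70.res_res _ _ _).trans (QC70.res_res _ _ _).symm)
    (fun p q => exists_glue₂ (cycZ R j) hA hB hWA hWB hW hT p q) a b h
  injI j a := eq_zero_lTensor _ (sRes f (R.cocomplex.X j) hA e) (sRes f (R.cocomplex.X j) hB e)
    (eq_zero_of_res₂ (R.cocomplex.X j) hA hB hT) a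
  glueI j a b h := exists_lTensor_glue _ (sRes f (R.cocomplex.X j) hA e) (sRes f (R.cocomplex.X j) hB e)
    (sRes f (R.cocomplex.X j) hWA (hA.trans e)) (sRes f (R.cocomplex.X j) hWB (hB.trans e))
    (fun m => (QC70.res_res _ _ _).trans (QC70.res_res _ _ _).symm)
    (fun p q => exists_glue₂ (R.cocomplex.X j) hA hB hWA hWB hW hT p q) a b h
  surjI j := LinearMap.lTensor_surjective _
    (g := sRes f (R.cocomplex.X j) hWA (hA.trans e))
    (QC70.restriction_surjective_of_injective (R.cocomplex.X j) hWA)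

variable (hK : FlatMod.IsFlatOver g' ((Scheme.Modules.pullback f').obj G))
  (R' : InjectiveResolution ((tensPull g' ((Scheme.Modules.pullback f').obj G)).obj M))

/-- The comparison of resolutions on an open. -/
def phiCyc (U : X.Opens) (e : U ≤ f ⁻¹ᵁ V) :
    CycHom (tensCyc G V' eV R U e) (resCyc R' (upOpen g' f' V' U)) where
  z j := hSec sq G V' eV (phiZ hK R R' j) U e
  i j := hSec sq G V' eV (phiI hK R R' j) U e
  comm_ι j a := hSec_map sq G V' eV _ _ _ _ (ι_phiI hK R R' j) U e a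
  comm_π j a := hSec_map sq G V' eV _ _ _ _ (π_phiZ hK R R' j) U e a

/-- Bijectivity on cohomology on all quasi-compact opens, from affine ones. -/
theorem qi_of_affine [QuasiSeparatedSpace (f ⁻¹ᵁ V).toScheme]
    (h : ∀ (U : X.Opens) (e : U ≤ f ⁻¹ᵁ V), IsAffineOpen U → (phiCyc sq G V' eV R hK R' U e).QI)
    (U : X.Opens) (e : U ≤ f ⁻¹ᵁ V) (hU : IsCompact (U : Set X)) :
    (phiCyc sq G V' eV R hK R' U e).QI := by
  refine qc_induction_within (f ⁻¹ᵁ V) (fun U => ∀ e : U ≤ f ⁻¹ᵁ V, (phiCyc sq G V' eV R hK R' U e).QI)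
    (fun U _ hU e => h U e hU) ?_ U e hU e
  intro A B eA eB hA hB hI eT
  have hT : upOpen g' f' V' (A ⊔ B) ≤ upOpen g' f' V' A ⊔ upOpen g' f' V' B := fun p hp => by
    rcases Opens.mem_sup.1 hp.1 with h | h
    · exact Opens.mem_sup.2 (Or.inl ⟨h, hp.2⟩)
    · exact Opens.mem_sup.2 (Or.inr ⟨h, hp.2⟩)
  have hW : upOpen g' f' V' A ⊓ upOpen g' f' V' B ≤ upOpen g' f' V' (A ⊓ B) :=
    fun p hp => ⟨⟨hp.1.1, hp.2.1⟩, hp.1.2⟩
  refine CycHom.QI.union (tensMV G V' eV R le_sup_left le_sup_right inf_le_left inf_le_right le_rfl le_rfl eT)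
    (resMV R' (upOpen_mono g' f' V' le_sup_left) (upOpen_mono g' f' V' le_sup_right)
      (upOpen_mono g' f' V' inf_le_left) (upOpen_mono g' f' V' inf_le_right) hW hT)
    (phiCyc sq G V' eV R hK R' (A ⊔ B) eT) (phiCyc sq G V' eV R hK R' A eA)
    (phiCyc sq G V' eV R hK R' B eB) (phiCyc sq G V' eV R hK R' (A ⊓ B) (inf_le_left.trans eA))
    ⟨fun j a => hSec_res sq G V' eV _ _ eT a, fun j a => hSec_res sq G V' eV _ _ eT a⟩
    ⟨fun j a => hSec_res sq G V' eV _ _ eT a, fun j a => hSec_res sq G V' eV _ _ eT a⟩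
    ⟨fun j a => hSec_res sq G V' eV _ _ eA a, fun j a => hSec_res sq G V' eV _ _ eA a⟩
    ⟨fun j a => hSec_res sq G V' eV _ _ eB a, fun j a => hSec_res sq G V' eV _ _ eB a⟩
    (fun j c => ?_) (fun j c => (QC70.res_res _ _ _).trans (QC70.res_res _ _ _).symm)
    (fun j c => (QC70.res_res _ _ _).trans (QC70.res_res _ _ _).symm)
    (hA eA) (hB eB) (hI _)
  show (sRes f _ _ _).lTensor _ ((sRes f _ _ _).lTensor _ c) = (sRes f _ _ _).lTensor _ ((sRes f _ _ _).lTensor _ c)
  rw [← LinearMap.lTensor_comp_apply, ← LinearMap.lTensor_comp_apply]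
  congr 2
  exact LinearMap.ext fun m => (QC70.res_res _ _ _).trans (QC70.res_res _ _ _).symm

end Groth.Agent.Coh69.TensBC
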