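import Groth.Agent.Coh69.TensBC.PullTens

/-! Comparison of injective resolutions along `M ↦ K ⊗ g^*M`. -/

set_option autoImplicit false
set_option backward.isDefEq.respectTransparency.types false
set_option maxSynthPendingDepth 6
set_option linter.style.haveILetI false

noncomputable section

universe u

open CategoryTheory Limits AlgebraicGeometry

namespace Groth.Agent.Coh69.TensBC

variable {X X' : Scheme.{u}} {g : X' ⟶ X} {K : X'.Modules} (hK : FlatMod.IsFlatOver g K)
  {M : X.Modules} (R : InjectiveResolution M) (R' : InjectiveResolution ((tensPull g K).obj M))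

/-- The extension to the injective terms of a map on cycles. -/
def stepI (j : ℕ) (φ : (tensPull g K).obj (cycZ R j) ⟶ cycZ R' j) :
    (tensPull g K).obj (R.cocomplex.X j) ⟶ R'.cocomplex.X j :=
  haveI := mono_tensPull_map g K hK (kernel.ι (R.cocomplex.d j (j + 1)))
  Injective.factorThru (φ ≫ kernel.ι (R'.cocomplex.d j (j + 1)))
    ((tensPull g K).map (kernel.ι (R.cocomplex.d j (j + 1))))

theorem ι_stepI (j : ℕ) (φ : (tensPull g K).obj (cycZ R j) ⟶ cycZ R' j) :
    (tensPull g K).map (kernel.ι (R.cocomplex.d j (j + 1))) ≫ stepI hK R R' j φ =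
      φ ≫ kernel.ι (R'.cocomplex.d j (j + 1)) :=
  haveI := mono_tensPull_map g K hK (kernel.ι (R.cocomplex.d j (j + 1)))
  Injective.comp_factorThru _ _

theorem stepI_zero (j : ℕ) (φ : (tensPull g K).obj (cycZ R j) ⟶ cycZ R' j) :
    kernel.ι (R.cocomplex.d j (j + 1)) ≫
      (tensPullAdj g K).homEquiv _ _ (stepI hK R R' j φ ≫ cycπ R' j) = 0 := by
  haveI : (QC70.homFunctor K ⋙ Scheme.Modules.pushforward g).IsRightAdjoint :=
    (tensPullAdj g K).isRightAdjoint
  rw [← Adjunction.homEquiv_naturality_left, ← Category.assoc, ι_stepI, Category.assoc, cyc_w, comp_zero,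
    Adjunction.homEquiv_unit, Functor.map_zero, comp_zero]

/-- The next map on cycles. -/
def stepZ (j : ℕ) (φ : (tensPull g K).obj (cycZ R j) ⟶ cycZ R' j) :
    (tensPull g K).obj (cycZ R (j + 1)) ⟶ cycZ R' (j + 1) :=
  ((tensPullAdj g K).homEquiv _ _).symm
    ((cyc_shortExact R j).gIsCokernel.desc (CokernelCofork.ofπ _ (stepI_zero hK R R' j φ)))

theorem π_stepZ (j : ℕ) (φ : (tensPull g K).obj (cycZ R j) ⟶ cycZ R' j) :
    (tensPull g K).map (cycπ R j) ≫ stepZ hK R R' j φ = stepI hK R R' j φ ≫ cycπ R' j := by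
  rw [stepZ, ← Adjunction.homEquiv_naturality_left_symm, Equiv.symm_apply_eq]
  exact (cyc_shortExact R j).gIsCokernel.fac _ WalkingParallelPair.one

/-- The first cycles are the module resolved. -/
def cycZero : M ≅ cycZ R 0 :=
  IsLimit.conePointUniqueUpToIso R.isLimitKernelFork (limit.isLimit _)

/-- The map on cycles. -/
def phiZ : ∀ j, (tensPull g K).obj (cycZ R j) ⟶ cycZ R' j
  | 0 => (tensPull g K).map (cycZero R).inv ≫ (cycZero R').hom
  | j + 1 => stepZ hK R R' j (phiZ j)

/-- The map on injective terms. -/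
def phiI (j : ℕ) : (tensPull g K).obj (R.cocomplex.X j) ⟶ R'.cocomplex.X j :=
  stepI hK R R' j (phiZ hK R R' j)

theorem ι_phiI (j : ℕ) :
    (tensPull g K).map (kernel.ι (R.cocomplex.d j (j + 1))) ≫ phiI hK R R' j =
      phiZ hK R R' j ≫ kernel.ι (R'.cocomplex.d j (j + 1)) :=
  ι_stepI hK R R' j _

theorem π_phiZ (j : ℕ) :
    (tensPull g K).map (cycπ R j) ≫ phiZ hK R R' (j + 1) = phiI hK R R' j ≫ cycπ R' j :=
  π_stepZ hK R R' j _

instance isIso_phiZ_zero : IsIso (phiZ hK R R' 0) :=
  inferInstanceAs (IsIso ((tensPull g K).map (cycZero R).inv ≫ (cycZero R').hom))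

end Groth.Agent.Coh69.TensBC
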