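import Groth.Agent.Coh69.TensBC.ResMap
import Groth.Agent.Coh69.TensBC.CycAlg
import Groth.Agent.Amp73.Tensor
import Groth.Agent.Amp73.Pullback
import Groth.Agent.QC70.Closure

/-! The comparison maps `Γ(V', G) ⊗ Γ(U, M) → Γ(U', M')` on sections. -/

set_option autoImplicit false
set_option backward.isDefEq.respectTransparency.types false
set_option maxSynthPendingDepth 6
set_option linter.style.haveILetI false

noncomputable section

universe u

open CategoryTheory Limits AlgebraicGeometry TopologicalSpace Opposite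
open scoped TensorProduct

namespace Groth.Agent.Coh69.TensBC

section Sec

variable {X S : Scheme.{u}} (f : X ⟶ S) {V : S.Opens}

/-- Sections over an open, as a module over the functions on an open of the base. -/
def Sec (M : X.Modules) (U : X.Opens) (e : U ≤ f ⁻¹ᵁ V) : ModuleCat.{u} Γ(S, V) :=
  @ModuleCat.of Γ(S, V) _ Γ(M, U) _ (Module.compHom Γ(M, U) (f.appLE V U e).hom)

/-- A section, as an element of the module of sections. -/
abbrev toSec {M : X.Modules} {U : X.Opens} (e : U ≤ f ⁻¹ᵁ V) (m : Γ(M, U)) : Sec f M U e := m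

/-- Morphisms of modules on sections, linearly. -/
def sMap {M N : X.Modules} (ψ : M ⟶ N) (U : X.Opens) (e : U ≤ f ⁻¹ᵁ V) :
    Sec f M U e →ₗ[Γ(S, V)] Sec f N U e where
  toFun m := ψ.app U m
  map_add' a b := map_add (ψ.app U).hom a b
  map_smul' a m := ψ.app_smul _ _

/-- Restriction of sections, linearly. -/
def sRes (M : X.Modules) {U U₂ : X.Opens} (h : U₂ ≤ U) (e : U ≤ f ⁻¹ᵁ V) :
    Sec f M U e →ₗ[Γ(S, V)] Sec f M U₂ (h.trans e) where
  toFun m := QC70.res M h m
  map_add' a b := QC70.res_add h (show Γ(M, U) from a) b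
  map_smul' a m := (QC70.res_smul h (f.appLE V U e a) (show Γ(M, U) from m)).trans
    (congrArg (· • QC70.res M h (show Γ(M, U) from m))
      (congr($(Scheme.Hom.appLE_map (f := f) e (homOfLE h).op) a)))

theorem app_res_sMap {M N : X.Modules} (ψ : M ⟶ N) {U U₂ : X.Opens} (h : U₂ ≤ U) (e : U ≤ f ⁻¹ᵁ V)
    (m : Sec f M U e) : sMap f ψ U₂ (h.trans e) (sRes f M h e m) = sRes f N h e (sMap f ψ U e m) :=
  QC70.app_res ψ h m

end Sec

variable {X S X' S' : Scheme.{u}} {f : X ⟶ S} {g : S' ⟶ S} {g' : X' ⟶ X} {f' : X' ⟶ S'}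
  (sq : IsPullback g' f' f g) (G : S'.Modules) {V : S.Opens} (V' : S'.Opens) (eV : V' ≤ g ⁻¹ᵁ V)

/-- The open upstairs lying over `U` and `V'`. -/
abbrev upOpen (g' : X' ⟶ X) (f' : X' ⟶ S') (V' : S'.Opens) (U : X.Opens) : X'.Opens :=
  g' ⁻¹ᵁ U ⊓ f' ⁻¹ᵁ V'

variable (g' f') in
theorem upOpen_mono {U₂ U : X.Opens} (h : U₂ ≤ U) : upOpen g' f' V' U₂ ≤ upOpen g' f' V' U :=
  inf_le_inf_right _ (g'.preimage_mono h)

include sq in
theorem appLE_comm {U : X.Opens} (eU : U ≤ f ⁻¹ᵁ V) (a : Γ(S, V)) :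
    f'.appLE V' (upOpen g' f' V' U) inf_le_right (g.appLE V V' eV a) =
      g'.appLE U (upOpen g' f' V' U) inf_le_left (f.appLE V U eU a) := by
  rw [← ConcreteCategory.comp_apply, ← ConcreteCategory.comp_apply,
    Scheme.Hom.appLE_comp_appLE, Scheme.Hom.appLE_comp_appLE]
  congr 3
  exact sq.w.symm

/-- The tensor of a section downstairs with a section on the source. -/
def pairS (M : X.Modules) (U : X.Opens) (γ : Γ(G, V')) (m : Γ(M, U)) :
    Γ((tensPull g' ((Scheme.Modules.pullback f').obj G)).obj M, upOpen g' f' V' U) :=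
  Amp73.tm _ _ (QC70.res ((Scheme.Modules.pullback f').obj G) inf_le_right (Amp73.pullS f' G V' γ))
    (QC70.res ((Scheme.Modules.pullback g').obj M) inf_le_left (Amp73.pullS g' M U m))

theorem pairS_res (M : X.Modules) {U U₂ : X.Opens} (h : U₂ ≤ U) (γ : Γ(G, V')) (m : Γ(M, U)) :
    QC70.res _ (upOpen_mono g' f' V' h) (pairS (f' := f') (g' := g') G V' M U γ m) =
      pairS (f' := f') (g' := g') G V' M U₂ γ (QC70.res M h m) := by
  refine (Amp73.res_tm _ _ _).trans (congrArg₂ (Amp73.tm _ _) (QC70.res_res _ _ _) ?_)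
  refine (QC70.res_res _ _ _).trans (Eq.trans ?_ (congrArg (QC70.res _ inf_le_left) (Amp73.res_pullS g' M h m)))
  exact (QC70.res_res _ _ _).symm

theorem pairS_map {M N : X.Modules} (ψ : M ⟶ N) (U : X.Opens) (γ : Γ(G, V')) (m : Γ(M, U)) :
    ((tensPull g' ((Scheme.Modules.pullback f').obj G)).map ψ).app (upOpen g' f' V' U)
        (pairS (f' := f') (g' := g') G V' M U γ m) =
      pairS (f' := f') (g' := g') G V' N U γ (ψ.app U m) := by
  refine (tensorBi_map_tmul _ ((Scheme.Modules.pullback g').map ψ) _ _ _).trans ?_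
  refine congrArg (Amp73.tm _ _ _) ((QC70.app_res _ _ _).trans ?_)
  exact congrArg _ (Amp73.map_app_pullS g' ψ U m)

include sq in
theorem pairS_balanced (M : X.Modules) (U : X.Opens) (eU : U ≤ f ⁻¹ᵁ V) (a : Γ(S, V)) (γ : Γ(G, V'))
    (m : Γ(M, U)) :
    pairS (f' := f') (g' := g') G V' M U (g.appLE V V' eV a • γ) m =
      pairS (f' := f') (g' := g') G V' M U γ (f.appLE V U eU a • m) := by
  rw [pairS, pairS, Amp73.pullS_smul, Amp73.pullS_smul]
  rw [QC70.res_smul, QC70.res_smul, Amp73.tm_smul_left, Amp73.tm_smul_right]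
  exact congrArg (· • Amp73.tm _ _ _ _) (appLE_comm sq V' eV eU a)

theorem pairS_add_right (M : X.Modules) (U : X.Opens) (γ : Γ(G, V')) (m n : Γ(M, U)) :
    pairS (f' := f') (g' := g') G V' M U γ (m + n) =
      pairS (f' := f') (g' := g') G V' M U γ m + pairS (f' := f') (g' := g') G V' M U γ n := by
  have h : Amp73.pullS g' M U (m + n) = Amp73.pullS g' M U m + Amp73.pullS g' M U n :=
    map_add (((Scheme.Modules.pullbackPushforwardAdjunction g').unit.app M).app U).hom m n
  rw [pairS, h, QC70.res_add, Amp73.tm_add_right]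
  rfl

theorem pairS_add_left (M : X.Modules) (U : X.Opens) (γ δ : Γ(G, V')) (m : Γ(M, U)) :
    pairS (f' := f') (g' := g') G V' M U (γ + δ) m =
      pairS (f' := f') (g' := g') G V' M U γ m + pairS (f' := f') (g' := g') G V' M U δ m := by
  have h : Amp73.pullS f' G V' (γ + δ) = Amp73.pullS f' G V' γ + Amp73.pullS f' G V' δ :=
    map_add (((Scheme.Modules.pullbackPushforwardAdjunction f').unit.app G).app V').hom γ δ
  rw [pairS, h, QC70.res_add, Amp73.tm_add_left]
  rfl

variable {M : X.Modules} {M' : X'.Modules}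

/-- `hSec` on pure tensors. -/
def hSecFun (φ : (tensPull g' ((Scheme.Modules.pullback f').obj G)).obj M ⟶ M') (U : X.Opens)
    (γ : Γ(G, V')) : Γ(M, U) →+ Γ(M', upOpen g' f' V' U) :=
  AddMonoidHom.mk' (fun m => φ.app (upOpen g' f' V' U) (pairS (f' := f') (g' := g') G V' M U γ m))
    fun m n => by
      rw [pairS_add_right]
      exact map_add (φ.app (upOpen g' f' V' U)).hom _ _

/-- `hSec` on pure tensors, additively. -/
def hSecHom (φ : (tensPull g' ((Scheme.Modules.pullback f').obj G)).obj M ⟶ M') (U : X.Opens) :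
    Γ(G, V') →+ Γ(M, U) →+ Γ(M', upOpen g' f' V' U) :=
  AddMonoidHom.mk' (hSecFun G V' φ U) fun γ δ => by
    refine AddMonoidHom.ext fun m => ?_
    show φ.app _ (pairS (f' := f') (g' := g') G V' M U (γ + δ) m) = _
    rw [pairS_add_left]
    exact map_add (φ.app (upOpen g' f' V' U)).hom _ _

/-- The comparison map on sections induced by `φ : f'^*G ⊗ g'^*M → M'`. -/
def hSec (φ : (tensPull g' ((Scheme.Modules.pullback f').obj G)).obj M ⟶ M') (U : X.Opens)
    (eU : U ≤ f ⁻¹ᵁ V) :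
    (Sec g G V' eV) ⊗[Γ(S, V)] (Sec f M U eU) →+ Γ(M', upOpen g' f' V' U) :=
  TensorProduct.liftAddHom (M := Sec g G V' eV) (N := Sec f M U eU) (hSecHom G V' φ U)
    fun a γ m => congrArg (φ.app (upOpen g' f' V' U)).hom (pairS_balanced sq G V' eV M U eU a γ m)

theorem hSec_tmul {M : X.Modules} {M' : X'.Modules}
    (φ : (tensPull g' ((Scheme.Modules.pullback f').obj G)).obj M ⟶ M') (U : X.Opens) (eU : U ≤ f ⁻¹ᵁ V)
    (γ : Γ(G, V')) (m : Γ(M, U)) :
    hSec sq G V' eV φ U eU (toSec g eV γ ⊗ₜ toSec f eU m) =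
      φ.app (upOpen g' f' V' U) (pairS (f' := f') (g' := g') G V' M U γ m) :=
  rfl

/-- Naturality in the modules. -/
theorem hSec_map {M N : X.Modules} {M' N' : X'.Modules}
    (φ : (tensPull g' ((Scheme.Modules.pullback f').obj G)).obj M ⟶ M')
    (φ₂ : (tensPull g' ((Scheme.Modules.pullback f').obj G)).obj N ⟶ N') (ψ : M ⟶ N) (ψ' : M' ⟶ N')
    (hc : (tensPull g' ((Scheme.Modules.pullback f').obj G)).map ψ ≫ φ₂ = φ ≫ ψ') (U : X.Opens)
    (eU : U ≤ f ⁻¹ᵁ V) (t : (Sec g G V' eV) ⊗[Γ(S, V)] (Sec f M U eU)) :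
    hSec sq G V' eV φ₂ U eU ((sMap f ψ U eU).lTensor _ t) =
      ψ'.app (upOpen g' f' V' U) (hSec sq G V' eV φ U eU t) := by
  induction t using TensorProduct.induction_on with
  | zero => simp only [map_zero]
  | add x y hx hy => simp only [map_add, hx, hy]
  | tmul γ m =>
    refine (hSec_tmul sq G V' eV φ₂ U eU γ (ψ.app U m)).trans ?_
    rw [← pairS_map]
    exact congr($(congrArg (fun q => Scheme.Modules.Hom.app q (upOpen g' f' V' U)) hc)
      (pairS (f' := f') (g' := g') G V' M U γ m))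

/-- Naturality in the open. -/
theorem hSec_res {M : X.Modules} {M' : X'.Modules}
    (φ : (tensPull g' ((Scheme.Modules.pullback f').obj G)).obj M ⟶ M') {U U₂ : X.Opens} (h : U₂ ≤ U)
    (eU : U ≤ f ⁻¹ᵁ V) (t : (Sec g G V' eV) ⊗[Γ(S, V)] (Sec f M U eU)) :
    hSec sq G V' eV φ U₂ (h.trans eU) ((sRes f M h eU).lTensor _ t) =
      QC70.res M' (upOpen_mono g' f' V' h) (hSec sq G V' eV φ U eU t) := by
  induction t using TensorProduct.induction_on with
  | zero => simp only [map_zero]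
  | add x y hx hy => simp only [map_add, hx, hy]
  | tmul γ m =>
    refine (hSec_tmul sq G V' eV φ U₂ _ γ (QC70.res M h m)).trans ?_
    rw [← pairS_res]
    exact QC70.app_res φ _ _

/-! ### Gluing on the union of two opens -/

theorem eq_zero_of_res₂ {Y : Scheme.{u}} (M : Y.Modules) {T A B : Y.Opens} (hA : A ≤ T) (hB : B ≤ T)
    (hT : T ≤ A ⊔ B) (x : Γ(M, T)) (ha : QC70.res M hA x = 0) (hb : QC70.res M hB x = 0) : x = 0 :=
  QC70.section_ext M x 0 fun p hp => by
    rcases Opens.mem_sup.1 (hT hp) with h | h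
    · exact ⟨A, hA, h, by rw [ha, QC70.res_zero]⟩
    · exact ⟨B, hB, h, by rw [hb, QC70.res_zero]⟩

theorem exists_glue₂ {Y : Scheme.{u}} (M : Y.Modules) {T A B W : Y.Opens} (hA : A ≤ T) (hB : B ≤ T)
    (hWA : W ≤ A) (hWB : W ≤ B) (hW : A ⊓ B ≤ W) (hT : T ≤ A ⊔ B) (a : Γ(M, A)) (b : Γ(M, B))
    (h : QC70.res M hWA a = QC70.res M hWB b) : ∃ t : Γ(M, T), QC70.res M hA t = a ∧ QC70.res M hB t = b := by
  have hsup : T ≤ ⨆ i : Bool, cond i A B := by rw [iSup_bool_eq]; exact hT
  have hle : ∀ i : Bool, cond i A B ≤ T := fun i => by cases i <;> assumption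
  have h1 : QC70.res M (inf_le_left : A ⊓ B ≤ A) a = QC70.res M (inf_le_right : A ⊓ B ≤ B) b := by
    rw [← QC70.res_res hWA hW, h, QC70.res_res]
  obtain ⟨t, ht⟩ := QC70.exists_glue M (fun i : Bool => cond i A B) hle hsup
    (fun i => Bool.rec b a i) (fun i j => by
      cases i <;> cases j
      · exact congrArg (fun z => z) rfl
      · show QC70.res M (inf_le_left : B ⊓ A ≤ B) b = QC70.res M (inf_le_right : B ⊓ A ≤ A) a
        have := congrArg (QC70.res M (le_inf inf_le_right inf_le_left : B ⊓ A ≤ A ⊓ B)) h1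
        rw [QC70.res_res, QC70.res_res] at this
        exact this.symm
      · exact h1
      · exact congrArg (fun z => z) rfl)
  exact ⟨t, ht true, ht false⟩

end Groth.Agent.Coh69.TensBC
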