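import Groth.Agent.Coh69.TensBC.Affine
import Groth.Agent.Mero90.TensorLift
import Groth.Agent.Mum71.CokerSec
import Groth.Agent.FMK72.BaseChange

/-! The base change morphism `G ⊗ g^*f_*M → f'_*M'`. -/

set_option autoImplicit false
set_option backward.isDefEq.respectTransparency.types false
set_option maxSynthPendingDepth 6
set_option linter.style.haveILetI false

noncomputable section

universe u

open CategoryTheory Limits AlgebraicGeometry TopologicalSpace Opposite
open scoped TensorProduct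

namespace Groth.Agent.Coh69.TensBC

section Coker

variable {X S : Scheme.{u}} (f : X ⟶ S) [QuasiCompact f] [QuasiSeparated f] {M : X.Modules}
  [M.IsQuasicoherent] (R : InjectiveResolution M)

/-- Sections of the higher direct image over an affine open, from cycles on the preimage. -/
theorem coker_push_sections {V : S.Opens} (hV : IsAffineOpen V) (m : ℕ) :
    Function.Surjective ((cokernel.π ((Scheme.Modules.pushforward f).map (cycπ R m))).app V) ∧
      ∀ s : Γ(cycZ R (m + 1), f ⁻¹ᵁ V),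
        (cokernel.π ((Scheme.Modules.pushforward f).map (cycπ R m))).app V s = 0 ↔
          ∃ t, (cycπ R m).app (f ⁻¹ᵁ V) t = s := by
  let W := f ⁻¹ᵁ V
  haveI : ((flResOfInj R).Z 0).IsQuasicoherent :=
    QC70.isQuasicoherent_of_iso
      (IsLimit.conePointUniqueUpToIso R.isLimitKernelFork (limit.isLimit _)) ‹M.IsQuasicoherent›
  have : IsAffine V.toScheme := hV
  have : QuasiSeparatedSpace W.toScheme := quasiSeparatedSpace_of_quasiSeparated (f ∣_ V)
  have hloc := fun a : Γ(S, V) => (flResOfInj R).loc_cycles_within W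
    (f.isCompact_preimage hV.isCompact) (f.app V a) m
  have hB : ∀ a : Γ(S, V), f ⁻¹ᵁ S.basicOpen a = X.basicOpen (f.app V a) := fun a =>
    Scheme.preimage_basicOpen f a
  exact Mum71.coker_app_surjective_and_ker ((Scheme.Modules.pushforward f).map (cycπ R m)) hV
    (fun a s hs => by
      obtain ⟨t, ht⟩ := hs
      obtain ⟨k, t', ht'⟩ := (hloc a).1 s ⟨QC70.res (R.cocomplex.X m) (hB a).ge t, by
        refine (QC70.app_res (cycπ R m) (hB a).ge t).trans ?_
        refine (congrArg (QC70.res (cycZ R (m + 1)) (hB a).ge) ht).trans ?_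
        exact QC70.res_res _ _ _⟩
      refine ⟨k, t', ht'.trans ?_⟩
      exact congrArg (fun z : Γ(X, W) => z • (show Γ(cycZ R (m + 1), W) from s))
        (map_pow (f.app V).hom a k).symm)
    (fun a s' => by
      obtain ⟨k, s, t, ht⟩ := (hloc a).2 (QC70.res (cycZ R (m + 1)) (hB a).ge s')
      refine ⟨k, s, QC70.res (R.cocomplex.X m) (hB a).le t, ?_⟩
      refine (QC70.app_res (cycπ R m) (hB a).le t).trans ?_
      refine (congrArg (QC70.res (cycZ R (m + 1)) (hB a).le) ht).trans ?_
      refine (QC70.res_sub _ _ _).trans ?_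
      refine congrArg₂ (· - ·) (QC70.res_res _ _ _) ?_
      refine (QC70.res_pow_smul _ _ _ _).trans ?_
      refine congrArg₂ (· • ·) ?_ ((QC70.res_res _ _ _).trans (QC70.res_self _))
      refine (congrArg (· ^ k) (QC70.resO_resO _ _ _)).trans ?_
      refine Eq.trans ?_ (map_pow (f.app (S.basicOpen a)).hom _ k).symm
      exact congrArg (· ^ k) (ConcreteCategory.congr_hom
        (f.naturality (homOfLE (S.basicOpen_le a)).op) a).symm)

/-- The cokernel on cycles is quasi-coherent. -/
theorem isQuasicoherent_coker [HasInjectiveResolutions X.Modules] (m : ℕ) :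
    (cokernel ((Scheme.Modules.pushforward f).map (cycπ R m))).IsQuasicoherent := by
  obtain ⟨e⟩ := nonempty_rpush_succ_iso f R m
  haveI := isQuasicoherent_rpush f M (m + 1)
  exact QC70.isQuasicoherent_of_iso e ‹_›

end Coker

variable {X S X' S' : Scheme.{u}} {f : X ⟶ S} {g : S' ⟶ S} {g' : X' ⟶ X} {f' : X' ⟶ S'}
  (sq : IsPullback g' f' f g) (G : S'.Modules)

include sq in
theorem preimage_comm (U : S.Opens) : f' ⁻¹ᵁ (g ⁻¹ᵁ U) = g' ⁻¹ᵁ (f ⁻¹ᵁ U) := by
  rw [← Scheme.Hom.comp_preimage, ← Scheme.Hom.comp_preimage, sq.w]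

/-- `f_*M → g_*f'_*g'^*M`. -/
def bcUnit (M : X.Modules) : (Scheme.Modules.pushforward f).obj M ⟶
    (Scheme.Modules.pushforward g).obj ((Scheme.Modules.pushforward f').obj ((Scheme.Modules.pullback g').obj M)) :=
  (Scheme.Modules.pushforward f).map ((Scheme.Modules.pullbackPushforwardAdjunction g').unit.app M) ≫
    (Scheme.Modules.pushforwardComp g' f ≪≫ Scheme.Modules.pushforwardCongr sq.w ≪≫
      (Scheme.Modules.pushforwardComp f' g).symm).hom.app ((Scheme.Modules.pullback g').obj M)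

theorem bcUnit_app (M : X.Modules) (U : S.Opens) (m : Γ(M, f ⁻¹ᵁ U)) :
    (bcUnit sq M).app U m =
      QC70.res ((Scheme.Modules.pullback g').obj M) (preimage_comm sq U).le
        (Amp73.pullS g' M (f ⁻¹ᵁ U) m) :=
  rfl

theorem bcUnit_naturality {M N : X.Modules} (ψ : M ⟶ N) :
    (Scheme.Modules.pushforward f).map ψ ≫ bcUnit sq N =
      bcUnit sq M ≫ (Scheme.Modules.pushforward g).map
        ((Scheme.Modules.pushforward f').map ((Scheme.Modules.pullback g').map ψ)) := by
  refine Scheme.Modules.hom_ext _ _ fun U => ?_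
  ext m
  show (bcUnit sq N).app U (ψ.app (f ⁻¹ᵁ U) m) =
    ((Scheme.Modules.pullback g').map ψ).app (f' ⁻¹ᵁ (g ⁻¹ᵁ U)) ((bcUnit sq M).app U m)
  rw [bcUnit_app, bcUnit_app, QC70.app_res, Amp73.map_app_pullS]

/-- The base change map in degree zero. -/
def bcMap (M : X.Modules) : (Scheme.Modules.pullback g).obj ((Scheme.Modules.pushforward f).obj M) ⟶
    (Scheme.Modules.pushforward f').obj ((Scheme.Modules.pullback g').obj M) :=
  ((Scheme.Modules.pullbackPushforwardAdjunction g).homEquiv _ _).symm (bcUnit sq M)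

theorem bcMap_pullS (M : X.Modules) (U : S.Opens) (m : Γ(M, f ⁻¹ᵁ U)) :
    (bcMap sq M).app (g ⁻¹ᵁ U) (Amp73.pullS g ((Scheme.Modules.pushforward f).obj M) U m) =
      (bcUnit sq M).app U m := by
  have h : (Scheme.Modules.pullbackPushforwardAdjunction g).homEquiv _ _ (bcMap sq M) = bcUnit sq M :=
    Equiv.apply_symm_apply _ _
  rw [Adjunction.homEquiv_unit] at h
  exact ConcreteCategory.congr_hom (congrArg (fun a => Scheme.Modules.Hom.app a U) h) m

theorem bcMap_naturality {M N : X.Modules} (ψ : M ⟶ N) :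
    (Scheme.Modules.pullback g).map ((Scheme.Modules.pushforward f).map ψ) ≫ bcMap sq N =
      bcMap sq M ≫ (Scheme.Modules.pushforward f').map ((Scheme.Modules.pullback g').map ψ) := by
  rw [bcMap, bcMap, ← Adjunction.homEquiv_naturality_left_symm, bcUnit_naturality,
    Adjunction.homEquiv_naturality_right_symm]

/-- The pairing of sections of `G` with sections of `g^*f_*M`. -/
def thetaPairing {M : X.Modules} {M' : X'.Modules}
    (φ : (tensPull g' ((Scheme.Modules.pullback f').obj G)).obj M ⟶ M') :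
    Mero90.Pairing G ((Scheme.Modules.pullback g).obj ((Scheme.Modules.pushforward f).obj M))
      ((Scheme.Modules.pushforward f').obj M') where
  b U γ x := φ.app (f' ⁻¹ᵁ U) (Amp73.tm _ _ (Amp73.pullS f' G U γ) ((bcMap sq M).app U x))
  add_left U γ γ' x := by
    have h : Amp73.pullS f' G U (γ + γ') = Amp73.pullS f' G U γ + Amp73.pullS f' G U γ' := map_add _ _ _
    rw [h]
    exact (congrArg _ (Amp73.tm_add_left _ _ _)).trans (map_add (φ.app (f' ⁻¹ᵁ U)).hom _ _)
  add_right U γ x x' := by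
    exact (congrArg (fun z => φ.app (f' ⁻¹ᵁ U) (Amp73.tm _ _ _ z)) (map_add ((bcMap sq M).app U).hom x x')).trans
      ((congrArg _ (Amp73.tm_add_right _ _ _)).trans (map_add (φ.app (f' ⁻¹ᵁ U)).hom _ _))
  smul_left U r γ x := by
    rw [Amp73.pullS_smul]
    exact (congrArg _ (Amp73.tm_smul_left _ _ _)).trans (φ.app_smul _ _)
  smul_right U r γ x := by
    exact (congrArg (fun z => φ.app (f' ⁻¹ᵁ U) (Amp73.tm _ _ _ z)) ((bcMap sq M).app_smul r x)).trans
      ((congrArg _ (Amp73.tm_smul_right _ _ _)).trans (φ.app_smul _ _))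
  nat U W h γ x := by
    refine Eq.trans ?_ (QC70.app_res φ (f'.preimage_mono h) _)
    refine congrArg _ (Eq.trans ?_ (Amp73.res_tm (f'.preimage_mono h) _ _).symm)
    exact congrArg₂ (Amp73.tm _ _) (Amp73.res_pullS f' G h γ).symm (QC70.app_res (bcMap sq M) h x)

/-- The base change morphism `G ⊗ g^*f_*M → f'_*M'`. -/
def theta {M : X.Modules} {M' : X'.Modules}
    (φ : (tensPull g' ((Scheme.Modules.pullback f').obj G)).obj M ⟶ M') :
    (tensPull g G).obj ((Scheme.Modules.pushforward f).obj M) ⟶ (Scheme.Modules.pushforward f').obj M' :=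
  (thetaPairing sq G φ).lift

theorem theta_tm {M : X.Modules} {M' : X'.Modules}
    (φ : (tensPull g' ((Scheme.Modules.pullback f').obj G)).obj M ⟶ M') (U : S'.Opens) (γ : Γ(G, U))
    (x : Γ((Scheme.Modules.pullback g).obj ((Scheme.Modules.pushforward f).obj M), U)) :
    (theta sq G φ).app U (Amp73.tm _ _ γ x) =
      φ.app (f' ⁻¹ᵁ U) (Amp73.tm _ _ (Amp73.pullS f' G U γ) ((bcMap sq M).app U x)) :=
  (thetaPairing sq G φ).lift_tmul U γ x

theorem theta_naturality {M N : X.Modules} {M' N' : X'.Modules}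
    (φ : (tensPull g' ((Scheme.Modules.pullback f').obj G)).obj M ⟶ M')
    (φ₂ : (tensPull g' ((Scheme.Modules.pullback f').obj G)).obj N ⟶ N') (ψ : M ⟶ N) (ψ' : M' ⟶ N')
    (hc : (tensPull g' ((Scheme.Modules.pullback f').obj G)).map ψ ≫ φ₂ = φ ≫ ψ') :
    (tensPull g G).map ((Scheme.Modules.pushforward f).map ψ) ≫ theta sq G φ₂ =
      theta sq G φ ≫ (Scheme.Modules.pushforward f').map ψ' := by
  refine GRec72.hom_ext_tmul fun U γ x => ?_
  show (theta sq G φ₂).app U (((tensPull g G).map ((Scheme.Modules.pushforward f).map ψ)).app U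
      (Amp73.tm _ _ γ x)) = ψ'.app (f' ⁻¹ᵁ U) ((theta sq G φ).app U (Amp73.tm _ _ γ x))
  refine (congrArg _ (tensorBi_map_tmul G ((Scheme.Modules.pullback g).map
    ((Scheme.Modules.pushforward f).map ψ)) U γ x)).trans ?_
  refine (theta_tm sq G φ₂ U γ _).trans ?_
  rw [theta_tm]
  refine Eq.trans ?_ (congr($(congrArg (fun q => Scheme.Modules.Hom.app q (f' ⁻¹ᵁ U)) hc) _))
  refine congrArg (φ₂.app (f' ⁻¹ᵁ U)) (Eq.trans ?_
    (tensorBi_map_tmul ((Scheme.Modules.pullback f').obj G) ((Scheme.Modules.pullback g').map ψ) _ _ _).symm)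
  exact congrArg (Amp73.tm _ _ _)
    (ConcreteCategory.congr_hom (congrArg (fun q => Scheme.Modules.Hom.app q U) (bcMap_naturality sq ψ)) x)

variable {V : S.Opens} {V' : S'.Opens} (eV : V' ≤ g ⁻¹ᵁ V)

/-- The base change morphism against the comparison on sections. -/
theorem theta_hSec {M : X.Modules} {M' : X'.Modules}
    (φ : (tensPull g' ((Scheme.Modules.pullback f').obj G)).obj M ⟶ M') (γ : Γ(G, V'))
    (m : Γ(M, f ⁻¹ᵁ V)) :
    QC70.res M' (inf_le_right : upOpen g' f' V' (f ⁻¹ᵁ V) ≤ f' ⁻¹ᵁ V')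
        ((theta sq G φ).app V' (Amp73.tm _ _ γ (QC70.res _ eV
          (Amp73.pullS g ((Scheme.Modules.pushforward f).obj M) V m)))) =
      hSec sq G V' eV φ (f ⁻¹ᵁ V) le_rfl (toSec g eV γ ⊗ₜ toSec f le_rfl m) := by
  rw [theta_tm, hSec_tmul, ← QC70.app_res]
  refine congrArg _ ((Amp73.res_tm _ _ _).trans (congrArg (Amp73.tm _ _ _) ?_))
  refine (congrArg (QC70.res ((Scheme.Modules.pullback g').obj M) inf_le_right)
    ((QC70.app_res (bcMap sq M) eV _).trans
      (congrArg (QC70.res ((Scheme.Modules.pushforward f').obj ((Scheme.Modules.pullback g').obj M)) eV)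
        ((bcMap_pullS sq M V m).trans (bcUnit_app sq M V m))))).trans ?_
  exact (QC70.res_res _ _ _).trans (QC70.res_res _ _ _)

end Groth.Agent.Coh69.TensBC
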